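import Groth.Agent.L08.Flag
import Groth.Agent.L08.Points
import Mathlib.LinearAlgebra.TensorProduct.Basis
import Mathlib.RingTheory.Polynomial.Pochhammer
import Mathlib.RingTheory.Coalgebra.Convolution
import Mathlib.RingTheory.Bialgebra.Convolution
import Mathlib.Algebra.CharP.Lemmas
import Mathlib.RingTheory.FiniteType
import Mathlib.LinearAlgebra.Dual.Lemmas

/-!
# Roots of points of unipotent groups of order invertible in the field
-/

set_option autoImplicit false

universe u v w

open TensorProduct WithConv Groth.L08 Polynomial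

noncomputable section

namespace Groth.L01.MultDescent

variable {k : Type u} [Field k] {A : Type v} [CommRing A] [HopfAlgebra k A]
  {R : Type w} [CommRing R] [Algebra k R]

/-- `x - 1` in the convolution algebra. -/
def del (x : WithConv (A →ₐ[k] R)) : WithConv (A →ₗ[k] R) := toConv x.ofConv.toLinearMap - 1

theorem del_one (x : WithConv (A →ₐ[k] R)) : (del x).ofConv 1 = 0 := by
  simp [del]

/-- Functionals killing `1` are locally nilpotent on a unipotent group. -/
theorem exists_pow_eq_zero (hU : HopfRep.IsUnipotent k A) (d : WithConv (A →ₗ[k] R)) (hd : d.ofConv 1 = 0)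
    (a : A) : ∃ N : ℕ, ∀ i, N ≤ i → (d ^ i).ofConv a = 0 := by
  classical
  letI := HopfRep.Comod.regular k A
  obtain ⟨m, F, hF0, hFm, hs⟩ := hasFlag_of_isUnipotent hU a
  suffices H : ∀ j, ∀ v ∈ F j, ∀ i, j ≤ i → (d ^ i).ofConv v = 0 from ⟨m, H m a hFm⟩
  intro j
  induction j with
  | zero =>
    intro v hv i _
    rw [hF0, Submodule.mem_bot] at hv
    rw [hv, map_zero]
  | succ j ih =>
    intro v hv i hi
    obtain ⟨i, rfl⟩ : ∃ i', i = i' + 1 := ⟨i - 1, by omega⟩
    obtain ⟨_, rfl, hstep⟩ := hs j
    let b := Module.Basis.ofVectorSpace k A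
    let c := Coalgebra.comul (R := k) v - v ⊗ₜ[k] (1 : A)
    have hco : ∀ l, TensorProduct.equivFinsuppOfBasisRight b c l ∈ F j := by
      intro l
      have key : ∀ y, TensorProduct.equivFinsuppOfBasisRight b y l =
          TensorProduct.rid k A ((b.coord l).lTensor A y) := by
        intro y
        induction y with
        | zero => simp
        | add p q hp hq => simp only [map_add, Finsupp.add_apply, hp, hq]
        | tmul m n => simp [TensorProduct.equivFinsuppOfBasisRight_apply_tmul_apply]
      simp only [key, c, map_sub, Finsupp.sub_apply, LinearMap.lTensor_tmul, TensorProduct.rid_tmul]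
      exact hstep v hv (b.coord l)
    rw [pow_succ, LinearMap.convMul_apply, show Coalgebra.comul (R := k) v = v ⊗ₜ[k] (1 : A) + c from
      (add_sub_cancel _ _).symm, map_add, map_add, TensorProduct.map_tmul, LinearMap.mul'_apply, hd, mul_zero,
      zero_add, ← (TensorProduct.equivFinsuppOfBasisRight b).symm_apply_apply c,
      TensorProduct.equivFinsuppOfBasisRight_symm_apply, Finsupp.sum, map_sum, map_sum]
    refine Finset.sum_eq_zero fun l _ => ?_
    rw [TensorProduct.map_tmul, LinearMap.mul'_apply, ih _ (hco l) i (by omega), zero_mul]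

/-- Iterates of a point are binomial sums. -/
theorem pow_eq_sum (x : WithConv (A →ₐ[k] R)) (j : ℕ) (a : A) :
    (x ^ j).ofConv a = ∑ i ∈ Finset.range (j + 1), (j.choose i : R) * ((del x) ^ i).ofConv a := by
  have h1 : toConv (x ^ j).ofConv.toLinearMap = (del x + 1) ^ j := by
    rw [del, sub_add_cancel]
    exact AlgHom.toLinearMap_convPow x j
  have h2 := congrArg (fun f : WithConv (A →ₗ[k] R) => f.ofConv a) h1
  rw [(Commute.one_right (del x)).add_pow] at h2
  simp only [one_pow, mul_one] at h2
  refine h2.trans ?_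
  rw [WithConv.ofConv_sum, LinearMap.sum_apply]
  refine Finset.sum_congr rfl fun i _ => ?_
  rw [(Nat.commute_cast (del x ^ i) (j.choose i)).eq, ← nsmul_eq_mul, WithConv.ofConv_smul, LinearMap.smul_apply,
    nsmul_eq_mul]

section CharZero

variable [CharZero k]

variable (k) in
include k in
/-- A polynomial vanishing on the natural numbers is zero. -/
theorem eq_zero_of_forall_nat {q : R[X]} (h : ∀ j : ℕ, q.eval (j : R) = 0) : q = 0 := by
  ext i
  rw [coeff_zero, ← Module.forall_dual_apply_eq_zero_iff k]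
  intro φ
  let qφ : k[X] := ∑ l ∈ Finset.range (q.natDegree + 1), C (φ (q.coeff l)) * X ^ l
  have h0 : qφ = 0 := by
    refine Polynomial.eq_zero_of_infinite_isRoot qφ (Set.infinite_of_injective_forall_mem
      (f := (Nat.cast : ℕ → k)) Nat.cast_injective fun j => ?_)
    show qφ.eval (j : k) = 0
    have h1 := congrArg φ (h j)
    rw [eval_eq_sum_range, map_sum, map_zero] at h1
    rw [← h1]
    simp only [qφ, eval_finsetSum, eval_mul, eval_C, eval_pow, eval_X]
    refine Finset.sum_congr rfl fun l _ => ?_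
    rw [← Nat.cast_pow, ← Nat.cast_pow, mul_comm (q.coeff l), ← nsmul_eq_mul, map_nsmul, nsmul_eq_mul, mul_comm]
  have h2 := congrArg (fun q => coeff q i) h0
  simp only [qφ, finset_sum_coeff, coeff_C_mul_X_pow, coeff_zero, Finset.sum_ite_eq, Finset.mem_range] at h2
  split_ifs at h2 with hi
  · exact h2
  · rw [coeff_eq_zero_of_natDegree_lt (by omega), map_zero]

theorem eq_of_forall_nat {P Q : WithConv (A →ₐ[k] R[X])}
    (h : ∀ (j : ℕ) (a : A), (P.ofConv a).eval (j : R) = (Q.ofConv a).eval (j : R)) : P = Q :=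
  WithConv.ofConv_injective (AlgHom.ext fun a =>
    sub_eq_zero.1 (eq_zero_of_forall_nat k fun j => by rw [eval_sub, h, sub_self]))

/-- The binomial polynomial. -/
def binom (i : ℕ) : R[X] := C (algebraMap k R ((i.factorial : k)⁻¹)) * descPochhammer R i

theorem binom_eval (i j : ℕ) : (binom (k := k) (R := R) i).eval (j : R) = (j.choose i : R) := by
  rw [binom, eval_mul, eval_C, descPochhammer_eval_eq_descFactorial, Nat.descFactorial_eq_factorial_mul_choose,
    Nat.cast_mul, ← mul_assoc, show ((i.factorial : R)) = algebraMap k R (i.factorial : k) from (map_natCast _ _).symm,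
    ← map_mul, inv_mul_cancel₀ (Nat.cast_ne_zero.2 i.factorial_ne_zero), map_one, one_mul]

theorem exists_param (hU : HopfRep.IsUnipotent k A) (x : WithConv (A →ₐ[k] R)) :
    ∃ P : WithConv (A →ₐ[k] R[X]), ∀ (j : ℕ) (a : A), (P.ofConv a).eval (j : R) = (x ^ j).ofConv a := by
  choose N hN using exists_pow_eq_zero hU (del x) (del_one x)
  let f : A → R[X] := fun a => ∑ i ∈ Finset.range (N a), C (((del x) ^ i).ofConv a) * binom (k := k) i
  have hf : ∀ (j : ℕ) (a : A), (f a).eval (j : R) = (x ^ j).ofConv a := by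
    intro j a
    rw [pow_eq_sum]
    simp only [f, eval_finsetSum, eval_mul, eval_C, binom_eval, mul_comm]
    rcases le_total (N a) (j + 1) with h | h
    · refine Finset.sum_subset (Finset.range_subset_range.2 h) fun i _ hi => ?_
      rw [Finset.mem_range, not_lt] at hi
      rw [hN a i hi, mul_zero]
    · refine (Finset.sum_subset (Finset.range_subset_range.2 h) fun i _ hi => ?_).symm
      rw [Finset.mem_range, not_lt] at hi
      rw [Nat.choose_eq_zero_of_lt (by omega), Nat.cast_zero, zero_mul]
  have hext : ∀ (a : A) (q : R[X]), (∀ j : ℕ, q.eval (j : R) = (x ^ j).ofConv a) → q = f a := fun a q h =>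
    sub_eq_zero.1 (eq_zero_of_forall_nat k fun j => by rw [eval_sub, hf, h, sub_self])
  refine ⟨toConv
    { toFun := f
      map_one' := (hext _ _ fun j => by simp).symm
      map_mul' := fun a b => (hext _ _ fun j => by rw [eval_mul, hf, hf, map_mul]).symm
      map_zero' := (hext _ _ fun j => by simp).symm
      map_add' := fun a b => (hext _ _ fun j => by rw [eval_add, hf, hf, map_add]).symm
      commutes' := fun c => (hext _ _ fun j => by simp).symm }, hf⟩

theorem post_mul {S : Type w} [CommRing S] [Algebra k S] (f : R →ₐ[k] S) (g h : WithConv (A →ₐ[k] R)) :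
    toConv (f.comp (g * h).ofConv) = toConv (f.comp g.ofConv) * toConv (f.comp h.ofConv) :=
  WithConv.ofConv_injective (AlgHom.comp_convMul_distrib f g h)

/-- Evaluation of a parametrised point. -/
def evPt (P : WithConv (A →ₐ[k] R[X])) (s : R) : WithConv (A →ₐ[k] R) :=
  toConv (((Polynomial.aeval s).restrictScalars k).comp P.ofConv)

theorem evPt_apply (P : WithConv (A →ₐ[k] R[X])) (s : R) (a : A) :
    (evPt P s).ofConv a = (P.ofConv a).eval s := coe_aeval_eq_eval s ▸ rfl

theorem evPt_mul (P Q : WithConv (A →ₐ[k] R[X])) (s : R) : evPt (P * Q) s = evPt P s * evPt Q s :=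
  post_mul _ P Q

/-- Constant parametrised points. -/
def cPt (y : WithConv (A →ₐ[k] R)) : WithConv (A →ₐ[k] R[X]) :=
  toConv (((Polynomial.CAlgHom : R →ₐ[R] R[X]).restrictScalars k).comp y.ofConv)

theorem evPt_cPt (y : WithConv (A →ₐ[k] R)) (s : R) : evPt (cPt y) s = y :=
  WithConv.ofConv_injective (AlgHom.ext fun a => by
    rw [evPt_apply]; show (C (y.ofConv a)).eval s = _; rw [eval_C])

/-- Substitution of a linear change of parameter. -/
def subPt (P : WithConv (A →ₐ[k] R[X])) (q : R[X]) : WithConv (A →ₐ[k] R[X]) :=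
  toConv (((Polynomial.aeval q).restrictScalars k).comp P.ofConv)

theorem evPt_subPt (P : WithConv (A →ₐ[k] R[X])) (q : R[X]) (s : R) : evPt (subPt P q) s = evPt P (q.eval s) :=
  WithConv.ofConv_injective (AlgHom.ext fun a => by
    rw [evPt_apply, evPt_apply]; show (aeval q (P.ofConv a)).eval s = _; rw [← Polynomial.coe_aeval_eq_eval,
      ← Polynomial.coe_aeval_eq_eval]; exact (Polynomial.aeval_algHom_apply (Polynomial.aeval s) q _).symm)

theorem eq_of_forall_evPt {P Q : WithConv (A →ₐ[k] R[X])} (h : ∀ j : ℕ, evPt P (j : R) = evPt Q (j : R)) : P = Q :=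
  eq_of_forall_nat fun j a => by rw [← evPt_apply, h j, evPt_apply]

theorem evPt_add {P : WithConv (A →ₐ[k] R[X])} {x : WithConv (A →ₐ[k] R)}
    (hP : ∀ j : ℕ, evPt P (j : R) = x ^ j) (s t : R) : evPt P s * evPt P t = evPt P (s + t) := by
  have h1 : ∀ (i : ℕ) (s : R), evPt P s * evPt P (i : R) = evPt P (s + i) := by
    intro i s
    have h : P * cPt (evPt P (i : R)) = subPt P (X + C (i : R)) := eq_of_forall_evPt fun j => by
      rw [evPt_mul, evPt_cPt, evPt_subPt, eval_add, eval_X, eval_C, ← Nat.cast_add, hP, hP, hP, pow_add]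
    have h2 := congrArg (fun Q => evPt Q s) h
    simpa [evPt_mul, evPt_cPt, evPt_subPt] using h2
  have h : cPt (evPt P s) * P = subPt P (C s + X) := eq_of_forall_evPt fun j => by
    rw [evPt_mul, evPt_cPt, evPt_subPt, eval_add, eval_X, eval_C, h1]
  have h2 := congrArg (fun Q => evPt Q t) h
  simpa [evPt_mul, evPt_cPt, evPt_subPt] using h2

theorem pow_bijective_charZero (hU : HopfRep.IsUnipotent k A) {n : ℕ} (hn : n ≠ 0) :
    Function.Bijective fun x : WithConv (A →ₐ[k] R) => x ^ n := by
  let t : R := algebraMap k R ((n : k)⁻¹)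
  have htn : t * (n : R) = 1 := by
    rw [show (n : R) = algebraMap k R (n : k) from (map_natCast _ _).symm, ← map_mul,
      inv_mul_cancel₀ (Nat.cast_ne_zero.2 hn), map_one]
  have key : ∀ y : WithConv (A →ₐ[k] R), ∀ P, (∀ j : ℕ, evPt P (j : R) = (y ^ n) ^ j) → evPt P t = y := by
    intro y P hP
    obtain ⟨Q, hQ⟩ := exists_param hU y
    have hQ' : ∀ j : ℕ, evPt Q (j : R) = y ^ j := fun j =>
      WithConv.ofConv_injective (AlgHom.ext fun a => (evPt_apply _ _ _).trans (hQ j a))
    have h : P = subPt Q (X * C (n : R)) := eq_of_forall_evPt fun j => by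
      rw [evPt_subPt, eval_mul, eval_X, eval_C, ← Nat.cast_mul, hP, hQ', ← pow_mul, mul_comm]
    rw [h, evPt_subPt, eval_mul, eval_X, eval_C, htn, ← Nat.cast_one, hQ', pow_one]
  refine ⟨fun y z h => ?_, fun x => ?_⟩
  · obtain ⟨P, hP⟩ := exists_param hU (y ^ n)
    have hP' : ∀ j : ℕ, evPt P (j : R) = (y ^ n) ^ j := fun j =>
      WithConv.ofConv_injective (AlgHom.ext fun a => (evPt_apply _ _ _).trans (hP j a))
    rw [← key y P hP', key z P fun j => (hP' j).trans (congrArg (· ^ j) h)]
  · obtain ⟨P, hP⟩ := exists_param hU x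
    have hP' : ∀ j : ℕ, evPt P (j : R) = x ^ j := fun j =>
      WithConv.ofConv_injective (AlgHom.ext fun a => (evPt_apply _ _ _).trans (hP j a))
    refine ⟨evPt P t, ?_⟩
    have hm : ∀ m : ℕ, evPt P t ^ m = evPt P ((m : R) * t) := by
      intro m
      induction m with
      | zero => rw [pow_zero, Nat.cast_zero, zero_mul, ← Nat.cast_zero, hP', pow_zero]
      | succ m ih => rw [pow_succ, ih, evPt_add hP', Nat.cast_succ, add_mul, one_mul]
    show evPt P t ^ n = x
    rw [hm, mul_comm, htn, ← Nat.cast_one, hP', pow_one]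

end CharZero

/-- In characteristic `p` the points have bounded `p`-power order. -/
theorem exists_pow_char_pow_eq_one [Algebra.FiniteType k A] (hU : HopfRep.IsUnipotent k A) (p : ℕ)
    [hp : Fact p.Prime] [CharP k p] (x : WithConv (A →ₐ[k] R)) : ∃ N : ℕ, x ^ p ^ N = 1 := by
  classical
  obtain ⟨s, hs⟩ := Algebra.FiniteType.out (R := k) (A := A)
  choose N hN using exists_pow_eq_zero hU (del x) (del_one x)
  refine ⟨s.sup N, WithConv.ofConv_injective (AlgHom.ext_of_adjoin_eq_top hs fun a ha => ?_)⟩
  have hle : N a ≤ p ^ s.sup N := (Finset.le_sup ha).trans (Nat.lt_pow_self hp.out.one_lt).le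
  have h1 : ((X : k[X]) - 1) ^ p ^ s.sup N = X ^ p ^ s.sup N - 1 := by
    rw [sub_pow_char_pow, one_pow]
  have h2 := congrArg (Polynomial.aeval (toConv x.ofConv.toLinearMap : WithConv (A →ₗ[k] R))) h1
  simp only [map_pow, map_sub, Polynomial.aeval_X, map_one] at h2
  rw [← AlgHom.toLinearMap_convPow x (p ^ s.sup N)] at h2
  have h3 := congrArg (fun f : WithConv (A →ₗ[k] R) => f.ofConv a) h2
  have h4 : ((del x) ^ p ^ s.sup N).ofConv a = 0 := hN a _ hle
  rw [del] at h4
  simp only [h4, WithConv.ofConv_sub, LinearMap.sub_apply] at h3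
  rw [eq_comm, sub_eq_zero] at h3
  refine h3.trans ?_
  simp

/-- Points of unipotent groups have unique roots of order invertible in the field. -/
theorem pow_bijective [Algebra.FiniteType k A] (hU : HopfRep.IsUnipotent k A) {n : ℕ} (hn : (n : k) ≠ 0) :
    Function.Bijective fun x : WithConv (A →ₐ[k] R) => x ^ n := by
  obtain ⟨p, hp⟩ := CharP.exists k
  rcases CharP.char_is_prime_or_zero k p with hpp | rfl
  · haveI : Fact p.Prime := ⟨hpp⟩
    have hcop : Nat.Coprime n p :=
      (hpp.coprime_iff_not_dvd.2 fun h => hn ((CharP.cast_eq_zero_iff k p n).2 h)).symm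
    have key : ∀ x : WithConv (A →ₐ[k] R), (orderOf x).Coprime n := by
      intro x
      obtain ⟨N, hN⟩ := exists_pow_char_pow_eq_one hU p x
      exact Nat.Coprime.coprime_dvd_left (orderOf_dvd_of_pow_eq_one hN) (hcop.symm.pow_left N)
    have root : ∀ x : WithConv (A →ₐ[k] R), ∃ m : ℕ, (x ^ n) ^ m = x ∧ (x ^ m) ^ n = x := by
      intro x
      obtain ⟨m, hm⟩ := exists_pow_eq_self_of_coprime (key x).symm
      exact ⟨m, hm, by rwa [← pow_mul, mul_comm, pow_mul]⟩
    refine ⟨fun y z h => ?_, fun x => ?_⟩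
    · obtain ⟨N, hN⟩ := exists_pow_char_pow_eq_one hU p y
      obtain ⟨N', hN'⟩ := exists_pow_char_pow_eq_one hU p z
      haveI : NeZero (p ^ (N + N')) := ⟨pow_ne_zero _ hpp.ne_zero⟩
      let m := ((n : ZMod (p ^ (N + N')))⁻¹).val
      have hmod : n * m ≡ 1 [MOD p ^ (N + N')] := (ZMod.natCast_eq_natCast_iff _ _ _).1 (by
        simp only [Nat.cast_mul, m, ZMod.natCast_zmod_val, Nat.cast_one]
        exact ZMod.coe_mul_inv_eq_one n (hcop.pow_right _))
      have e : ∀ w : WithConv (A →ₐ[k] R), w ^ p ^ (N + N') = 1 → (w ^ n) ^ m = w := fun w hw => by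
        rcases (Nat.eq_zero_or_pos (N + N')) with h0 | h0
        · rw [h0, pow_zero, pow_one] at hw
          rw [hw, one_pow, one_pow]
        · rw [← pow_mul, ← Nat.div_add_mod (n * m) (p ^ (N + N')), hmod,
            Nat.one_mod_eq_one.2 (Nat.one_lt_pow h0.ne' hpp.one_lt).ne', pow_add, pow_mul, hw, one_pow, one_mul,
            pow_one]
      rw [← e y (by rw [pow_add, pow_mul, hN, one_pow]),
        ← e z (by rw [pow_add, mul_comm, pow_mul, hN', one_pow])]
      exact congrArg (· ^ m) h
    · obtain ⟨m, -, hm⟩ := root x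
      exact ⟨x ^ m, hm⟩
  · haveI : CharZero k := CharP.charP_to_charZero k
    exact pow_bijective_charZero hU (by rintro rfl; exact hn Nat.cast_zero)

end Groth.L01.MultDescent
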