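import Groth.Agent.S7966
import Groth.Agent.L25.Char.EtaleSplit
import Groth.Prelude.Def_HopfRep
import Mathlib.RingTheory.HopfAlgebra.MonoidAlgebra
import Mathlib.RingTheory.Coalgebra.GroupLike
import Mathlib.RingTheory.HopfAlgebra.GroupLike
import Mathlib.RingTheory.HopfAlgebra.TensorProduct
import Mathlib.GroupTheory.FiniteAbelian.Duality
import Mathlib.RingTheory.RootsOfUnity.AlgebraicallyClosed
import Mathlib.LinearAlgebra.LinearIndependent.Lemmas
import Mathlib.RingTheory.Unramified.Field
import Mathlib.FieldTheory.SeparableClosure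

/-!
# Torsion points of smooth groups of multiplicative type
-/

set_option autoImplicit false

universe u

open TensorProduct WithConv Coalgebra

noncomputable section

namespace Groth.L01.MultDescent

variable {k : Type u} [Field k] {K : Type u} [Field K] [Algebra k K] {B : Type u} [CommRing B] [HopfAlgebra k B]

/-- A point evaluated on a base change. -/
def ev {T : Type u} [CommRing T] [Algebra k T] (f : T →ₐ[k] K) (h : WithConv (B →ₐ[k] K)) : T ⊗[k] B →ₐ[k] K :=
  Algebra.TensorProduct.lift f h.ofConv fun _ _ => Commute.all _ _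

variable {T : Type u} [CommRing T] [Algebra k T] (f : T →ₐ[k] K)

theorem ev_smul (h : WithConv (B →ₐ[k] K)) (c : T) (z : T ⊗[k] B) : ev f h (c • z) = f c * ev f h z := by
  rw [Algebra.smul_def, map_mul]
  congr 1
  show Algebra.TensorProduct.lift f h.ofConv _ (c ⊗ₜ[k] (1 : B)) = f c
  simp

theorem exists_ev_mul (g h : WithConv (B →ₐ[k] K)) :
    letI : Algebra T K := f.toRingHom.toAlgebra
    ∃ L : (T ⊗[k] B) ⊗[T] (T ⊗[k] B) →ₐ[T] K, (∀ w, ev f (g * h) w = L (Coalgebra.comul (R := T) w)) ∧
      ∀ x y, L (x ⊗ₜ[T] y) = ev f g x * ev f h y := by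
  let F : (T ⊗[k] B) →ₐ[k] K := ev f g
  let G : (T ⊗[k] B) →ₐ[k] K := ev f h
  letI : Algebra T K := f.toRingHom.toAlgebra
  haveI : IsScalarTower k T K := IsScalarTower.of_algebraMap_eq fun c => (f.commutes c).symm
  let F' : (T ⊗[k] B) →ₐ[T] K := { F with commutes' := fun c => (show ev f g (c ⊗ₜ[k] (1 : B)) = f c by simp [ev]) }
  let G' : (T ⊗[k] B) →ₐ[T] K := { G with commutes' := fun c => (show ev f h (c ⊗ₜ[k] (1 : B)) = f c by simp [ev]) }
  let L : (T ⊗[k] B) ⊗[T] (T ⊗[k] B) →ₐ[T] K := Algebra.TensorProduct.lift F' G' fun _ _ => Commute.all _ _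
  refine ⟨L, fun w => ?_, fun x y => rfl⟩
  induction w with
  | zero => simp
  | add x y hx hy => simp only [map_add, hx, hy]
  | tmul c b =>
    rw [show c ⊗ₜ[k] b = c • ((1 : T) ⊗ₜ[k] b) by rw [TensorProduct.smul_tmul', smul_eq_mul, mul_one], ev_smul,
      map_smul, map_smul, Algebra.smul_def]
    show f c * ev f (g * h) ((1 : T) ⊗ₜ[k] b) = f c * L (Coalgebra.comul (R := T) ((1 : T) ⊗ₜ[k] b))
    congr 1
    rw [Groth.Agent.S7966.comul_one_tmul]
    show f 1 * (g * h).ofConv b = _
    rw [map_one, one_mul, AlgHom.convMul_apply]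
    induction Coalgebra.comul (R := k) b with
    | zero => simp
    | add x y hx hy => simp only [map_add, TensorProduct.tmul_add, hx, hy]
    | tmul x y =>
      show g.ofConv x * h.ofConv y = L (((1 : T) ⊗ₜ[k] x) ⊗ₜ[T] ((1 : T) ⊗ₜ[k] y))
      show _ = F ((1 : T) ⊗ₜ[k] x) * G ((1 : T) ⊗ₜ[k] y)
      simp [F, G, ev]

theorem ev_mul_groupLike (g h : WithConv (B →ₐ[k] K)) {γ : T ⊗[k] B} (hγ : IsGroupLikeElem T γ) :
    ev f (g * h) γ = ev f g γ * ev f h γ := by
  obtain ⟨L, hL, hL'⟩ := exists_ev_mul f g h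
  rw [hL, hγ.comul_eq_tmul_self, hL']

theorem ev_one_groupLike {γ : T ⊗[k] B} (hγ : IsGroupLikeElem T γ) :
    ev f (1 : WithConv (B →ₐ[k] K)) γ = 1 := by
  have h : ∀ w : T ⊗[k] B, ev f (1 : WithConv (B →ₐ[k] K)) w = f (Coalgebra.counit (R := T) w) := by
    intro w
    induction w with
    | zero => simp
    | add x y hx hy => simp only [map_add, hx, hy]
    | tmul c b => simp [ev, AlgHom.convOne_apply, Algebra.smul_def, mul_comm]
  rw [h, hγ.counit_eq_one, map_one]

theorem ev_pow_groupLike (h : WithConv (B →ₐ[k] K)) {γ : T ⊗[k] B} (hγ : IsGroupLikeElem T γ) :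
    ∀ n : ℕ, ev f (h ^ n) γ = ev f h γ ^ n
  | 0 => by rw [pow_zero, pow_zero, ev_one_groupLike f hγ]
  | n + 1 => by rw [pow_succ, ev_mul_groupLike f _ _ hγ, ev_pow_groupLike h hγ n, pow_succ]

variable (hd : HopfRep.IsDiagonalizable K (K ⊗[k] B))

/-- The evaluation over `K`. -/
abbrev evK (h : WithConv (B →ₐ[k] K)) : K ⊗[k] B →ₐ[k] K := ev (AlgHom.id k K) h

include hd in
theorem ext_groupLike {g h : WithConv (B →ₐ[k] K)}
    (e : ∀ γ : K ⊗[k] B, IsGroupLikeElem K γ → evK g γ = evK h γ) : g = h := by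
  have key : ∀ w : K ⊗[k] B, evK g w = evK h w := by
    intro w
    induction (hd.ge (Submodule.mem_top (x := w))) using Submodule.span_induction with
    | mem x hx => exact e x hx
    | zero => simp
    | add x y _ _ hx hy => simp only [map_add, hx, hy]
    | smul c x _ hx => rw [ev_smul, ev_smul, hx]
  exact WithConv.ofConv_injective (AlgHom.ext fun b => by simpa [ev] using key ((1 : K) ⊗ₜ[k] b))

include hd in
theorem point_comm (g h : WithConv (B →ₐ[k] K)) : g * h = h * g :=
  ext_groupLike hd fun γ hγ => by rw [ev_mul_groupLike _ _ _ hγ, ev_mul_groupLike _ _ _ hγ, mul_comm]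

/-- Torsion points of order invertible in the field. -/
def Tors (h : WithConv (B →ₐ[k] K)) : Prop := ∃ n : ℕ, (n : k) ≠ 0 ∧ h ^ n = 1

theorem tors_one : Tors (1 : WithConv (B →ₐ[k] K)) := ⟨1, by simp, pow_one _⟩

include hd in
theorem Tors.mul {g h : WithConv (B →ₐ[k] K)} (hg : Tors g) (hh : Tors h) : Tors (g * h) := by
  obtain ⟨n, hn, hgn⟩ := hg
  obtain ⟨m, hm, hhm⟩ := hh
  refine ⟨n * m, by rw [Nat.cast_mul]; exact mul_ne_zero hn hm, ext_groupLike hd fun γ hγ => ?_⟩
  rw [ev_pow_groupLike _ _ hγ, ev_mul_groupLike _ _ _ hγ, mul_pow, ← ev_pow_groupLike _ _ hγ, ← ev_pow_groupLike _ _ hγ,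
    pow_mul, hgn, one_pow, mul_comm n m, pow_mul, hhm, one_pow, ev_one_groupLike _ hγ, one_mul]

variable [IsReduced (K ⊗[k] B)] [Algebra.FiniteType k B]

include hd in
theorem lift_bijective :
    Function.Bijective (MonoidAlgebra.liftGroupLikeBialgHom :
      MonoidAlgebra K (GroupLike K (K ⊗[k] B)) →ₐc[K] K ⊗[k] B) := by
  have h : ∀ z : MonoidAlgebra K (GroupLike K (K ⊗[k] B)), MonoidAlgebra.liftGroupLikeBialgHom z =
      Finsupp.linearCombination K (fun g : GroupLike K (K ⊗[k] B) => g.val) z.coeff := by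
    intro z
    induction z using MonoidAlgebra.induction_linear with
    | zero => simp
    | add a b ha hb => simp only [map_add, ha, hb, MonoidAlgebra.coeff_add]
    | single g c => simp [Algebra.smul_def]
  refine ⟨fun x y hxy => ?_, fun w => ?_⟩
  · rw [h, h] at hxy
    exact MonoidAlgebra.coeff_injective (linearIndep_groupLikeVal hxy)
  · induction (hd.ge (Submodule.mem_top (x := w))) using Submodule.span_induction with
    | mem x hx => exact ⟨MonoidAlgebra.single ⟨x, hx⟩ 1, by simp⟩
    | zero => exact ⟨0, map_zero _⟩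
    | add x y _ _ hx hy =>
      obtain ⟨a, ha⟩ := hx; obtain ⟨b, hb⟩ := hy
      exact ⟨a + b, by rw [map_add, ha, hb]⟩
    | smul r x _ hx => obtain ⟨a, ha⟩ := hx; exact ⟨r • a, by rw [map_smul, ha]⟩

include hd in
theorem groupLike_fg : Monoid.FG (GroupLike K (K ⊗[k] B)) :=
  MonoidAlgebra.finiteType_iff_fg.1 (Algebra.FiniteType.equiv (A := K ⊗[k] B) inferInstance
    (BialgEquiv.ofBijective _ (lift_bijective hd)).symm.toAlgEquiv)

variable [IsAlgClosed K]

theorem eq_one_of_pow_char {q : ℕ} [ExpChar K q] {m : GroupLike K (K ⊗[k] B)} (h : m ^ q = 1) : m = 1 := by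
  haveI : Nontrivial (K ⊗[k] B) := (Bialgebra.counitAlgHom K (K ⊗[k] B)).toRingHom.domain_nontrivial
  haveI : ExpChar (K ⊗[k] B) q := expChar_of_injective_algebraMap (algebraMap K _).injective q
  have h1 : (m.val - 1) ^ q = 0 := by
    rw [sub_pow_expChar, one_pow, ← GroupLike.val_pow, h, GroupLike.val_one, sub_self]
  exact GroupLike.ext ((sub_eq_zero.1 (IsReduced.eq_zero _ ⟨q, h1⟩)).trans GroupLike.val_one.symm)

include hd in
/-- A non-trivial character is non-trivial on some torsion point. -/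
theorem exists_tors_ne {m : GroupLike K (K ⊗[k] B)} (hm : m ≠ 1) :
    ∃ h : WithConv (B →ₐ[k] K), Tors h ∧ evK h m.val ≠ 1 := by
  classical
  let M := GroupLike K (K ⊗[k] B)
  haveI : Monoid.FG M := groupLike_fg hd
  haveI : Group.FG M := Group.fg_iff_monoid_fg.2 inferInstance
  haveI : AddGroup.FG (Additive M) := inferInstance
  haveI : Module.Finite ℤ (Additive M) := Module.Finite.iff_addGroup_fg.2 inferInstance
  obtain ⟨q, hq⟩ := ExpChar.exists K
  obtain ⟨n, hnk, hmn⟩ : ∃ n : ℕ, (n : K) ≠ 0 ∧ ∀ x : M, x ^ n ≠ m := by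
    -- a suitable prime
    obtain ⟨l, hl, hlK, hld⟩ : ∃ l : ℕ, l.Prime ∧ (l : K) ≠ 0 ∧ (orderOf m = 0 ∨ l ∣ orderOf m) := by
      rcases eq_or_ne (orderOf m) 0 with h0 | h0
      · rcases eq_or_ne ((2 : ℕ) : K) 0 with h2 | h2
        · refine ⟨3, Nat.prime_three, fun h3 => ?_, Or.inl h0⟩
          have h1 : ((3 : ℕ) : K) = ((2 : ℕ) : K) + 1 := by norm_num
          rw [h3, h2, zero_add] at h1
          exact zero_ne_one h1
        · exact ⟨2, Nat.prime_two, h2, Or.inl h0⟩
      · obtain ⟨l, hl, hdvd⟩ := Nat.exists_prime_and_dvd (fun h1 => hm (orderOf_eq_one_iff.1 h1))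
        refine ⟨l, hl, fun hlK => ?_, Or.inr hdvd⟩
        obtain ⟨e, he⟩ := hdvd
        cases hq with
        | zero => exact hl.ne_zero (Nat.cast_eq_zero.1 hlK)
        | prime hqp =>
          haveI : ExpChar K q := ExpChar.prime hqp
          obtain rfl : l = q := ((Nat.prime_dvd_prime_iff_eq hqp hl).1 ((CharP.cast_eq_zero_iff K q l).1 hlK)).symm
          have h1 : m ^ e = 1 := eq_one_of_pow_char (q := l) (by rw [← pow_mul, mul_comm, ← he, pow_orderOf_eq_one])
          have h2 := orderOf_dvd_of_pow_eq_one h1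
          rw [he] at h2
          rcases Nat.eq_zero_or_pos e with rfl | hpos
          · exact h0 (by rw [he, mul_zero])
          · have := Nat.le_of_dvd hpos h2
            have h3 := hqp.two_le
            nlinarith
    by_contra hall
    push Not at hall
    have hall' : ∀ i, ∃ x : M, x ^ (l ^ i) = m := fun i => hall _ (by rw [Nat.cast_pow]; exact pow_ne_zero _ hlK)
    choose x hx using hall'
    let Nsub : ℕ →o Submodule ℤ (Additive M) :=
      { toFun := fun i => Submodule.comap (((l : ℤ) ^ i) • LinearMap.id) (Submodule.span ℤ {Additive.ofMul m})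
        monotone' := monotone_nat_of_le_succ fun i y hy => by
          simp only [Submodule.mem_comap, LinearMap.smul_apply, LinearMap.id_apply] at hy ⊢
          rw [pow_succ', mul_smul]
          exact Submodule.smul_mem _ _ hy }
    obtain ⟨N, hN⟩ := monotone_stabilizes_iff_noetherian.2 (inferInstance : IsNoetherian ℤ (Additive M)) Nsub
    have hmem : Additive.ofMul (x (N + 1)) ∈ Nsub N := by
      rw [hN (N + 1) (Nat.le_succ N)]
      show ((l : ℤ) ^ (N + 1)) • Additive.ofMul (x (N + 1)) ∈ Submodule.span ℤ {Additive.ofMul m}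
      rw [← Nat.cast_pow, natCast_zsmul, ← ofMul_pow, hx]
      exact Submodule.mem_span_singleton_self _
    obtain ⟨a, ha⟩ := Submodule.mem_span_singleton.1 (show ((l : ℤ) ^ N) • Additive.ofMul (x (N + 1)) ∈ Submodule.span ℤ {Additive.ofMul m} from hmem)
    have h1 : (1 - (l : ℤ) * a) • Additive.ofMul m = 0 := by
      rw [sub_smul, one_smul, mul_smul, ha, smul_smul, ← pow_succ', ← Nat.cast_pow, natCast_zsmul, ← ofMul_pow, hx,
        sub_self]
    have h2 : m ^ (1 - (l : ℤ) * a) = 1 := Additive.ofMul.injective (by rw [ofMul_zpow, h1, ofMul_one])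
    have h3 := orderOf_dvd_iff_zpow_eq_one.2 h2
    rcases hld with h0 | hdvd
    · rw [h0, Nat.cast_zero, zero_dvd_iff, sub_eq_zero, eq_comm] at h3
      have := Int.eq_one_of_mul_eq_one_right (by positivity) h3
      exact hl.ne_one (by exact_mod_cast this)
    · have h4 : (l : ℤ) ∣ 1 - (l : ℤ) * a := (Int.natCast_dvd_natCast.2 hdvd).trans h3
      have h5 : (l : ℤ) ∣ 1 := by simpa using dvd_add h4 (dvd_mul_right (l : ℤ) a)
      exact hl.ne_one (by exact_mod_cast Int.eq_one_of_dvd_one (by positivity) h5)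
  let P : Subgroup M := (powMonoidHom n : M →* M).range
  have hn0 : n ≠ 0 := fun h => hnk (by rw [h, Nat.cast_zero])
  have htor : ∀ x : M ⧸ P, x ^ n = 1 := fun x => by
    obtain ⟨y, rfl⟩ := QuotientGroup.mk_surjective x
    rw [← QuotientGroup.mk_pow, QuotientGroup.eq_one_iff]
    exact ⟨y, rfl⟩
  haveI : Group.FG (M ⧸ P) := Group.fg_of_surjective (f := QuotientGroup.mk' P) QuotientGroup.mk_surjective
  haveI : Finite (M ⧸ P) := CommGroup.finite_of_fg_torsion _
    (fun x => isOfFinOrder_iff_pow_eq_one.2 ⟨n, Nat.pos_of_ne_zero hn0, htor x⟩)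
  haveI : NeZero (Monoid.exponent (M ⧸ P) : K) := ⟨fun h => hnk (by
    obtain ⟨c, hc⟩ := Monoid.exponent_dvd_of_forall_pow_eq_one htor
    rw [hc, Nat.cast_mul, h, zero_mul])⟩
  obtain ⟨φ, hφ⟩ := CommGroup.exists_apply_ne_one_of_hasEnoughRootsOfUnity (M ⧸ P) K
    (a := QuotientGroup.mk m) (fun h => by
      obtain ⟨x, hx⟩ := (QuotientGroup.eq_one_iff m).1 h
      exact hmn x hx)
  let χ : M →* K := (Units.coeHom K).comp (φ.comp (QuotientGroup.mk' P))
  let e := BialgEquiv.ofBijective _ (lift_bijective (k := k) (K := K) (B := B) hd)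
  let Φ : K ⊗[k] B →ₐ[K] K := (MonoidAlgebra.lift K K M χ).comp e.symm.toAlgEquiv.toAlgHom
  let h : WithConv (B →ₐ[k] K) := toConv ((Φ.restrictScalars k).comp Algebra.TensorProduct.includeRight)
  have hev : ∀ w, evK h w = Φ w := by
    intro w
    induction w with
    | zero => simp
    | add x y hx hy => simp only [map_add, hx, hy]
    | tmul c b =>
      rw [show c ⊗ₜ[k] b = c • ((1 : K) ⊗ₜ[k] b) by rw [TensorProduct.smul_tmul', smul_eq_mul, mul_one], ev_smul,
        map_smul, smul_eq_mul, AlgHom.id_apply]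
      congr 1
      simp [ev, h]
  have hval : ∀ y : M, Φ y.val = χ y := fun y => by
    have h1 : e (MonoidAlgebra.single y 1) = y.val := by simp [e]
    rw [← h1]
    show MonoidAlgebra.lift K K M χ (e.symm (e (MonoidAlgebra.single y 1))) = _
    rw [e.symm_apply_apply, MonoidAlgebra.lift_single, one_smul]
  refine ⟨h, ⟨n, fun hn => hnk (by rw [← map_natCast (algebraMap k K), hn, map_zero]), ext_groupLike hd fun γ hγ => ?_⟩, ?_⟩
  · rw [ev_pow_groupLike _ _ hγ, ev_one_groupLike _ hγ, hev, show γ = (⟨γ, hγ⟩ : M).val from rfl, hval, ← map_pow]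
    show ((φ (QuotientGroup.mk' P (⟨γ, hγ⟩ ^ n)) : Kˣ) : K) = 1
    rw [map_pow, htor, map_one, Units.val_one]
  · rw [hev, hval]
    exact fun h1 => hφ (Units.ext h1)

include hd in
/-- Torsion points are dense. -/
theorem eq_zero_of_tors {z : K ⊗[k] B} (hz : ∀ h, Tors h → evK h z = 0) : z = 0 := by
  classical
  let M := GroupLike K (K ⊗[k] B)
  let Γ : Submonoid (WithConv (B →ₐ[k] K)) :=
    { carrier := {h | Tors h}
      one_mem' := tors_one
      mul_mem' := fun hg hh => hg.mul hd hh }
  let F : M → (Γ →* K) := fun m =>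
    { toFun := fun h => evK h.1 m.val
      map_one' := ev_one_groupLike _ m.isGroupLikeElem_val
      map_mul' := fun a b => ev_mul_groupLike _ _ _ m.isGroupLikeElem_val }
  have hinj : Function.Injective F := fun m m' hmm => by
    by_contra hne
    obtain ⟨h, hh, hne'⟩ := exists_tors_ne hd (m := m * m'⁻¹) (fun h => hne (mul_inv_eq_one.1 h))
    refine hne' ?_
    have h1 : evK h m.val = evK h m'.val := congrArg (fun f : Γ →* K => f ⟨h, hh⟩) hmm
    have h2 : evK h ((m' * m'⁻¹).val) = 1 := by rw [mul_inv_cancel, GroupLike.val_one, map_one]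
    rw [GroupLike.val_mul, map_mul, h1, ← map_mul, ← GroupLike.val_mul, h2]
  have hli := (linearIndependent_monoidHom Γ K).comp F hinj
  obtain ⟨c, rfl⟩ := (lift_bijective (k := k) (K := K) (B := B) hd).2 z
  have hexp : MonoidAlgebra.liftGroupLikeBialgHom c = Finsupp.linearCombination K (fun g : M => g.val) c.coeff := by
    clear hz
    induction c using MonoidAlgebra.induction_linear with
    | zero => simp
    | add a b ha hb => rw [MonoidAlgebra.coeff_add, map_add, map_add, ha, hb]
    | single g r => simp [Algebra.smul_def]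
  have h0 : Finsupp.linearCombination K (fun g : M => (F g : Γ → K)) c.coeff = 0 := by
    funext h
    rw [Pi.zero_apply, ← hz h.1 h.2, hexp, Finsupp.linearCombination_apply, Finsupp.linearCombination_apply,
      Finsupp.sum, Finsupp.sum, map_sum, Finset.sum_apply]
    refine Finset.sum_congr rfl fun m _ => ?_
    rw [ev_smul]
    rfl
  have hc : c = 0 := MonoidAlgebra.coeff_injective (linearIndependent_iff.1 hli _ h0)
  rw [hc, map_zero]

include hd in
/-- Pairs of torsion points are dense. -/
theorem eq_zero_of_tors₂ {z : B ⊗[k] B}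
    (hz : ∀ g h : WithConv (B →ₐ[k] K), Tors g → Tors h → (Algebra.TensorProduct.lift g.ofConv (h : WithConv (B →ₐ[k] K)).ofConv
      fun _ _ => Commute.all _ _) z = 0) : z = 0 := by
  classical
  let b := Module.Basis.ofVectorSpace k B
  let bB := Algebra.TensorProduct.basis B b
  have key : ∀ g, Tors g → ∀ l, (g : WithConv (B →ₐ[k] K)).ofConv (bB.repr z l) = 0 := by
    intro g hg l
    let w : K ⊗[k] B := Algebra.TensorProduct.map g.ofConv (AlgHom.id k B) z
    have hw : w = 0 := eq_zero_of_tors hd fun h hh => by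
      rw [← hz g h hg hh]
      show evK h (Algebra.TensorProduct.map g.ofConv (AlgHom.id k B) z) = _
      clear hz w
      induction z with
      | zero => simp
      | add x y hx hy => simp only [map_add, hx, hy]
      | tmul x y => simp [ev]
    have hrep : ∀ z : B ⊗[k] B, (Algebra.TensorProduct.basis K b).repr
        (Algebra.TensorProduct.map g.ofConv (AlgHom.id k B) z) l = g.ofConv (bB.repr z l) := by
      intro z
      induction z with
      | zero => simp
      | add x y hx hy => simp only [map_add, Finsupp.add_apply, hx, hy]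
      | tmul c x => simp [bB, Algebra.TensorProduct.basis_repr_tmul, Algebra.smul_def]
    rw [← hrep]
    show (Algebra.TensorProduct.basis K b).repr w l = 0
    rw [hw, map_zero, Finsupp.zero_apply]
  refine bB.repr.injective (Finsupp.ext fun l => ?_)
  rw [map_zero, Finsupp.zero_apply]
  refine Algebra.TensorProduct.includeRight_injective (R := k) (A := K) (B := B) (algebraMap k K).injective ?_
  rw [map_zero]
  refine eq_zero_of_tors hd fun g hg => ?_
  show ev (AlgHom.id k K) g ((1 : K) ⊗ₜ[k] bB.repr z l) = 0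
  simp [ev, key g hg l]

include hd in
theorem finite_kill {n : ℕ} (hn : 0 < n) : {h : WithConv (B →ₐ[k] K) | h ^ n = 1}.Finite := by
  classical
  let M := GroupLike K (K ⊗[k] B)
  haveI : Monoid.FG M := groupLike_fg hd
  obtain ⟨S, hS⟩ := Monoid.fg_def.1 ‹Monoid.FG M›
  have hroots : {c : K | c ^ n = 1}.Finite :=
    (Polynomial.finite_setOf_isRoot (Polynomial.X_pow_sub_C_ne_zero hn (1 : K))).subset fun c hc => by
      simpa [sub_eq_zero] using hc
  haveI := hroots.to_subtype
  refine Set.Finite.of_finite_image (f := fun h : WithConv (B →ₐ[k] K) => fun s : S => evK h s.1.val) ?_ ?_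
  · refine (Set.Finite.pi fun _ : S => hroots).subset ?_
    rintro _ ⟨h, hh, rfl⟩ s -
    show evK h s.1.val ^ n = 1
    rw [← ev_pow_groupLike _ _ s.1.isGroupLikeElem_val, (hh : h ^ n = 1), ev_one_groupLike _ s.1.isGroupLikeElem_val]
  · intro g _ h _ he
    refine ext_groupLike hd fun γ hγ => ?_
    have hm : (⟨γ, hγ⟩ : M) ∈ Submonoid.closure (S : Set M) := hS ▸ Submonoid.mem_top _
    suffices hall : ∀ m ∈ Submonoid.closure (S : Set M), evK g m.val = evK h m.val from hall _ hm
    intro m hm
    induction hm using Submonoid.closure_induction with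
    | mem x hx => exact congrFun he ⟨x, hx⟩
    | one => exact (map_one (evK g)).trans (map_one (evK h)).symm
    | mul x y _ _ hx hy => exact (map_mul (evK g) _ _).trans ((congrArg₂ (· * ·) hx hy).trans (map_mul (evK h) _ _).symm)

omit [IsReduced (K ⊗[k] B)] [IsAlgClosed K] in
/-- The values of torsion points are separable. -/
theorem isSeparable_tors [IsAlgClosed K] (hB : SGA3b.IsMultTypeConst k B) {h : WithConv (B →ₐ[k] K)}
    (hh : Tors h) (b : B) : IsSeparable k (h.ofConv b) := by
  obtain ⟨n, hn, hhn⟩ := hh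
  obtain ⟨T, _, _, _, q, hq, -, M, _, -, ⟨e⟩⟩ := Groth.L25.Char.exists_etale_split_of_const hB (⊥ : Ideal k)
  haveI : Nontrivial T := ⟨0, 1, fun h => hq.ne_top ((Ideal.eq_top_iff_one _).2 (h ▸ q.zero_mem))⟩
  haveI : Module.Finite k T := Algebra.FormallyUnramified.finite_of_free k T
  obtain ⟨P, hP⟩ := Ideal.exists_maximal T
  letI := Ideal.Quotient.field P
  haveI : Algebra.FormallyUnramified k (T ⧸ P) :=
    Algebra.FormallyUnramified.of_surjective (Ideal.Quotient.mkₐ k P) Ideal.Quotient.mk_surjective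
  haveI : Algebra.IsSeparable k (T ⧸ P) := Algebra.FormallyUnramified.isSeparable k (T ⧸ P)
  haveI : Algebra.IsAlgebraic k (T ⧸ P) := Algebra.IsAlgebraic.of_finite k (T ⧸ P)
  let j : (T ⧸ P) →ₐ[k] K := IsAlgClosed.lift
  let f : T →ₐ[k] K := j.comp (Ideal.Quotient.mkₐ k P)
  have hsep : ∀ c, f c ∈ separableClosure k K := fun c => mem_separableClosure_iff.2
    ((Algebra.IsSeparable.isSeparable k (Ideal.Quotient.mk P c)).map j j.toRingHom.injective)
  have key : ∀ w : MonoidAlgebra T M, ev f h (e.symm w) ∈ separableClosure k K := by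
    intro w
    induction w using MonoidAlgebra.induction_linear with
    | zero => rw [map_zero, map_zero]; exact zero_mem _
    | add x y hx hy => rw [map_add, map_add]; exact add_mem hx hy
    | single m c =>
      rw [show MonoidAlgebra.single m c = c • MonoidAlgebra.single m (1 : T) by
        rw [MonoidAlgebra.smul_single, smul_eq_mul, mul_one], map_smul, ev_smul]
      refine mul_mem (hsep c) (mem_separableClosure_iff.2 ?_)
      have hγ : IsGroupLikeElem T (e.symm (MonoidAlgebra.single m (1 : T))) :=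
        (MonoidAlgebra.isGroupLikeElem_single_one m).map e.symm
      have h1 := ev_pow_groupLike f h hγ n
      rw [hhn, ev_one_groupLike f hγ] at h1
      exact Polynomial.Separable.of_dvd (Polynomial.separable_X_pow_sub_C (1 : k) hn one_ne_zero)
        (minpoly.dvd k _ (by simp [← h1]))
  have h2 := key (e ((1 : T) ⊗ₜ[k] b))
  rw [e.symm_apply_apply] at h2
  have h3 : ev f h ((1 : T) ⊗ₜ[k] b) = h.ofConv b := by simp [ev]
  rw [h3] at h2
  exact mem_separableClosure_iff.1 h2

end Groth.L01.MultDescent
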