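import Groth.Agent.L01.MultDescent.Average
import Groth.Agent.L01.MultDescent.Torsion
import Groth.Agent.L01.MultDescent.PowPt
import Groth.Agent.L01.MultByUnip.Main
import Groth.Agent.L01.UnipSplit.SmoothKer
import Groth.Agent.S4128
import Groth.Agent.S7951
import Groth.Agent.S7979
import Mathlib.FieldTheory.SeparableClosure
import Mathlib.RingTheory.HopfAlgebra.Convolution
import Mathlib.GroupTheory.Perm.Cycle.Type
import Mathlib.GroupTheory.OrderOfElement

/-!
# Extensions of smooth groups of multiplicative type by commutative unipotent groups with a section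
-/

set_option autoImplicit false

universe u v

open TensorProduct WithConv Coalgebra

noncomputable section

namespace Groth.L01.MultDescent

/-! ### Abstract groups -/

section Abstract

variable {G : Type u} [Group G] {H : Type v} [CommGroup H] (p : G →* H)

theorem avgData_restrict (hcomm : ∀ u v : G, p u = 1 → p v = 1 → u * v = v * u)
    (T : Subgroup H) [Fintype T] (hroot : ∀ u : G, p u = 1 → ∃! w : G, p w = 1 ∧ w ^ Fintype.card T = u) :
    AvgData (p.subgroupComap T) := by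
  refine ⟨fun u v hu hv => Subtype.ext (hcomm _ _ (congrArg Subtype.val hu) (congrArg Subtype.val hv)),
    fun u hu => ?_⟩
  obtain ⟨w, ⟨hw, hwn⟩, huniq⟩ := hroot u.1 (congrArg Subtype.val hu)
  exact ⟨⟨w, by rw [Subgroup.mem_comap, hw]; exact one_mem _⟩, ⟨Subtype.ext hw, Subtype.ext hwn⟩,
    fun x hx => Subtype.ext (huniq x.1 ⟨congrArg Subtype.val hx.1, congrArg Subtype.val hx.2⟩)⟩

variable (hcomm : ∀ u v : G, p u = 1 → p v = 1 → u * v = v * u) (T : Subgroup H) [Fintype T]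
  (hroot : ∀ u : G, p u = 1 → ∃! w : G, p w = 1 ∧ w ^ Fintype.card T = u)

/-- An automorphism of the base, restricted to a stable subgroup. -/
def restrictEquiv (τH : H ≃* H) (hT : ∀ h, τH h ∈ T ↔ h ∈ T) : T ≃* T where
  toFun h := ⟨τH h.1, (hT _).2 h.2⟩
  invFun h := ⟨τH.symm h.1, (hT _).1 (by rw [MulEquiv.apply_symm_apply]; exact h.2)⟩
  left_inv h := Subtype.ext (τH.symm_apply_apply h.1)
  right_inv h := Subtype.ext (τH.apply_symm_apply h.1)
  map_mul' a b := Subtype.ext (map_mul τH a.1 b.1)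

/-- An automorphism of the group, restricted to the preimage of a stable subgroup. -/
def comapEquiv (τ : G ≃* G) (τH : H ≃* H) (hτ : ∀ g, p (τ g) = τH (p g)) (hT : ∀ h, τH h ∈ T ↔ h ∈ T) :
    T.comap p ≃* T.comap p where
  toFun g := ⟨τ g.1, by rw [Subgroup.mem_comap, hτ]; exact (hT _).2 g.2⟩
  invFun g := ⟨τ.symm g.1, by
    rw [Subgroup.mem_comap]
    refine (hT _).1 ?_
    rw [← hτ, MulEquiv.apply_symm_apply]
    exact g.2⟩
  left_inv g := Subtype.ext (τ.symm_apply_apply g.1)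
  right_inv g := Subtype.ext (τ.apply_symm_apply g.1)
  map_mul' a b := Subtype.ext (map_mul τ a.1 b.1)

include hcomm hroot in
theorem exists_hom_section' (s : H → G) (hs : ∀ h, p (s h) = h) :
    ∃ r : T →* G, (∀ h, p (r h) = h) ∧
      (∀ (τ : G ≃* G) (τH : H ≃* H), (∀ g, p (τ g) = τH (p g)) → ∀ (hT : ∀ h, τH h ∈ T ↔ h ∈ T),
        (∀ h, τ (s h) = s (τH h)) → ∀ h : T, τ (r h) = r (restrictEquiv T τH hT h)) ∧
      (∀ S : Subgroup G, (∀ h ∈ T, s h ∈ S) → (∀ w, p w = 1 → w ^ Fintype.card T ∈ S → w ∈ S) → ∀ h, r h ∈ S) := by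
  obtain ⟨r, hr, hr1, hr2⟩ := exists_hom_section (avgData_restrict p hcomm T hroot)
    (fun h => ⟨s h.1, by rw [Subgroup.mem_comap, hs]; exact h.2⟩) (fun h => Subtype.ext (hs h.1))
  refine ⟨(T.comap p).subtype.comp r, fun h => congrArg Subtype.val (hr h), fun τ τH hτ hT hτs h => ?_,
    fun S hS hSr h => ?_⟩
  · exact congrArg Subtype.val (hr1 (comapEquiv p T τ τH hτ hT) (restrictEquiv T τH hT)
      (fun g => Subtype.ext (hτ g.1)) (fun h => Subtype.ext (hτs h.1)) h)
  · exact hr2 (S.subgroupOf (T.comap p)) (fun h => hS h.1 h.2)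
      (fun w hw hwn => hSr w.1 (congrArg Subtype.val hw) hwn) h

include hcomm hroot in
theorem exists_conj' (r r' : T →* G) (hr : ∀ h, p (r h) = h) (hr' : ∀ h, p (r' h) = h) :
    ∃ u : G, p u = 1 ∧ (∀ h, r' h = u * r h * u⁻¹) ∧
      (∀ (τ : G ≃* G) (τH : H ≃* H), (∀ g, p (τ g) = τH (p g)) → ∀ (hT : ∀ h, τH h ∈ T ↔ h ∈ T),
        (∀ h : T, τ (r h) = r (restrictEquiv T τH hT h)) → (∀ h : T, τ (r' h) = r' (restrictEquiv T τH hT h)) →
          τ u = u) ∧
      (∀ S : Subgroup G, (∀ h, r h ∈ S) → (∀ h, r' h ∈ S) →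
        (∀ w, p w = 1 → w ^ Fintype.card T ∈ S → w ∈ S) → u ∈ S) := by
  have hmem : ∀ (f : T →* G), (∀ h, p (f h) = h) → ∀ h, f h ∈ T.comap p := fun f hf h => by
    rw [Subgroup.mem_comap, hf]; exact h.2
  obtain ⟨u, hu, hc, h1, h2⟩ := exists_conj (avgData_restrict p hcomm T hroot)
    (r.codRestrict _ (hmem r hr)) (r'.codRestrict _ (hmem r' hr'))
    (fun h => Subtype.ext (hr h)) (fun h => Subtype.ext (hr' h))
  refine ⟨u.1, congrArg Subtype.val hu, fun h => congrArg Subtype.val (hc h), fun τ τH hτ hT hτr hτr' => ?_,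
    fun S hS hS' hSr => ?_⟩
  · exact congrArg Subtype.val (h1 (comapEquiv p T τ τH hτ hT) (restrictEquiv T τH hT)
      (fun g => Subtype.ext (hτ g.1)) (fun h => Subtype.ext (hτr h)) (fun h => Subtype.ext (hτr' h)))
  · exact h2 (S.subgroupOf (T.comap p)) hS hS' fun w hw hwn => hSr w.1 (congrArg Subtype.val hw) hwn

end Abstract

/-! ### Points -/

/-- Points of an affine group with values in an algebra form a group. -/
@[reducible] def ptGroup {k A R : Type u} [Field k] [CommRing A] [HopfAlgebra k A] [CommRing R] [Algebra k R] :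
    Group (WithConv (A →ₐ[k] R)) :=
  { (inferInstance : Monoid (WithConv (A →ₐ[k] R))) with
    inv := Groth.L08.pinv
    inv_mul_cancel := Groth.L08.pinv_mul }

attribute [local instance] ptGroup

/-- Points of a commutative group form a commutative group. -/
@[reducible] def ptCommGroup {k A R : Type u} [Field k] [CommRing A] [HopfAlgebra k A] [CommRing R] [Algebra k R]
    [Coalgebra.IsCocomm k A] : CommGroup (WithConv (A →ₐ[k] R)) :=
  { (inferInstance : CommMonoid (WithConv (A →ₐ[k] R))), (inferInstance : Group (WithConv (A →ₐ[k] R))) with }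

attribute [local instance] ptCommGroup

section Points

open Groth.L01.UnipSplit

variable {k : Type u} [Field k] {A B : Type u} [CommRing A] [HopfAlgebra k A] [CommRing B] [HopfAlgebra k B]
  (ψ : B →ₐc[k] A) {R S : Type u} [CommRing R] [Algebra k R] [CommRing S] [Algebra k S]

/-- The projection on points. -/
def pt : WithConv (A →ₐ[k] R) →* WithConv (B →ₐ[k] R) :=
  MonoidHom.mk' (fun g : WithConv (A →ₐ[k] R) => (toConv (g.ofConv.comp (ψ : B →ₐ[k] A)) : WithConv (B →ₐ[k] R)))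
    (pre_mul ψ)

theorem pt_apply (g : WithConv (A →ₐ[k] R)) (b : B) : (pt ψ g).ofConv b = g.ofConv (ψ b) := rfl

variable (A) in
/-- Change of ring of values. -/
def push (f : R →ₐ[k] S) : WithConv (A →ₐ[k] R) →* WithConv (A →ₐ[k] S) :=
  MonoidHom.mk' (fun g : WithConv (A →ₐ[k] R) => (toConv (f.comp g.ofConv) : WithConv (A →ₐ[k] S)))
    (UnipSplit.post_mul f)

theorem push_apply (f : R →ₐ[k] S) (g : WithConv (A →ₐ[k] R)) (a : A) :
    (push A f g).ofConv a = f (g.ofConv a) := rfl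

theorem push_injective {f : R →ₐ[k] S} (hf : Function.Injective f) : Function.Injective (push A f) :=
  fun _ _ h => WithConv.ofConv_injective (AlgHom.ext fun a =>
    hf (congrArg (fun t : WithConv (A →ₐ[k] S) => t.ofConv a) h))

theorem pt_push (f : R →ₐ[k] S) (g : WithConv (A →ₐ[k] R)) : pt ψ (push A f g) = push B f (pt ψ g) := rfl

variable (A) in
/-- The action of an automorphism on points. -/
def gal (τ : R ≃ₐ[k] R) : WithConv (A →ₐ[k] R) ≃* WithConv (A →ₐ[k] R) where
  toFun := push A (τ : R →ₐ[k] R)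
  invFun := push A (τ.symm : R →ₐ[k] R)
  left_inv g := WithConv.ofConv_injective (AlgHom.ext fun a => τ.symm_apply_apply (g.ofConv a))
  right_inv g := WithConv.ofConv_injective (AlgHom.ext fun a => τ.apply_symm_apply (g.ofConv a))
  map_mul' := map_mul (push A (τ : R →ₐ[k] R))

theorem gal_apply (τ : R ≃ₐ[k] R) (g : WithConv (A →ₐ[k] R)) (a : A) : (gal A τ g).ofConv a = τ (g.ofConv a) :=
  rfl

theorem gal_pt (τ : R ≃ₐ[k] R) (g : WithConv (A →ₐ[k] R)) : pt ψ (gal A τ g) = gal B τ (pt ψ g) := rfl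

variable {J : Ideal A} [J.IsHopfIdeal k]
  (hJ : J = Ideal.map (ψ : B →+* A) (RingHom.ker (Bialgebra.counitAlgHom k B)))

variable (J) in
/-- Points of the kernel as points. -/
def quo : WithConv (A ⧸ J →ₐ[k] R) →* WithConv (A →ₐ[k] R) := pt (Bialgebra.Quotient.mkBialgHom (R := k) J)

theorem quo_injective : Function.Injective (quo J : WithConv (A ⧸ J →ₐ[k] R) →* WithConv (A →ₐ[k] R)) :=
  fun x y h => WithConv.ofConv_injective (AlgHom.ext fun q => by
    obtain ⟨a, rfl⟩ := Ideal.Quotient.mk_surjective q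
    exact congrArg (fun t : WithConv (A →ₐ[k] R) => t.ofConv a) h)

include hJ in
theorem exists_quo {g : WithConv (A →ₐ[k] R)} (hg : pt ψ g = 1) : ∃ x, quo J x = g :=
  ⟨toConv (Ideal.Quotient.liftₐ J g.ofConv (IsKer.kills hJ (show IsKer ψ g from hg))),
    WithConv.ofConv_injective (AlgHom.ext fun _ => rfl)⟩

include hJ in
theorem pt_quo (x : WithConv (A ⧸ J →ₐ[k] R)) : pt ψ (quo J x) = 1 :=
  (isKer_mk (ψ := ψ) J hJ).post x.ofConv

include hJ in
theorem ker_comm [Coalgebra.IsCocomm k (A ⧸ J)] (u v : WithConv (A →ₐ[k] R)) (hu : pt ψ u = 1) (hv : pt ψ v = 1) :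
    u * v = v * u := by
  obtain ⟨x, rfl⟩ := exists_quo ψ hJ hu
  obtain ⟨y, rfl⟩ := exists_quo ψ hJ hv
  rw [← map_mul, mul_comm, map_mul]

include hJ in
theorem ker_root [Algebra.FiniteType k A] (hU : HopfRep.IsUnipotent k (A ⧸ J)) {n : ℕ} (hn : (n : k) ≠ 0)
    (u : WithConv (A →ₐ[k] R)) (hu : pt ψ u = 1) : ∃! w, pt ψ w = 1 ∧ w ^ n = u := by
  haveI : Algebra.FiniteType k (A ⧸ J) :=
    Algebra.FiniteType.of_surjective (Ideal.Quotient.mkₐ k J) Ideal.Quotient.mk_surjective
  obtain ⟨x, rfl⟩ := exists_quo ψ hJ hu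
  obtain ⟨y, hy⟩ := (pow_bijective (R := R) hU hn).2 x
  refine ⟨quo J y, ⟨pt_quo ψ hJ y, by rw [← map_pow]; exact congrArg _ hy⟩, fun w hw => ?_⟩
  obtain ⟨z, rfl⟩ := exists_quo ψ hJ hw.1
  exact congrArg _ ((pow_bijective (R := R) hU hn).1
    ((quo_injective (by rw [map_pow]; exact hw.2)).trans hy.symm))

end Points

/-! ### Density and stabilisation -/

section Field

variable {k : Type u} [Field k] {K : Type u} [Field K] [Algebra k K]

/-- Centralisers of an increasing sequence of sets of points are stationary. -/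
theorem exists_stable {A : Type u} [CommRing A] [HopfAlgebra k A] [Algebra.FiniteType k A]
    (C : ℕ → Set (WithConv (A →ₐ[k] K))) (hC : Monotone C) :
    ∃ N, ∀ M v, N ≤ M → (∀ c ∈ C N, v * c = c * v) → ∀ c ∈ C M, v * c = c * v := by
  haveI : IsNoetherianRing (K ⊗[k] A) := Algebra.FiniteType.isNoetherianRing K _
  let E : WithConv (A →ₐ[k] K) → (K ⊗[k] A →ₐ[k] K) := fun v =>
    Algebra.TensorProduct.lift (AlgHom.id k K) v.ofConv fun _ _ => Commute.all _ _
  let I : ℕ →o Ideal (K ⊗[k] A) :=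
    { toFun := fun i => ⨅ v ∈ {v | ∀ c ∈ C i, v * c = c * v}, RingHom.ker (E v)
      monotone' := fun i j hij => biInf_mono fun v hv c hc => hv c (hC hij hc) }
  obtain ⟨N, hN⟩ := monotone_stabilizes_iff_noetherian.2 (inferInstance : IsNoetherian (K ⊗[k] A) (K ⊗[k] A)) I
  refine ⟨N, fun M v hM hv c hc => ?_⟩
  let X : WithConv (A →ₐ[k] K ⊗[k] A) := toConv Algebra.TensorProduct.includeRight
  let ι : K →ₐ[k] K ⊗[k] A := Algebra.TensorProduct.includeLeft
  have hX : ∀ w, push A (E w) X = w := fun w => WithConv.ofConv_injective (AlgHom.ext fun a => by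
    simp [push, E, X])
  have hι : ∀ w x, push A (E w) (push A ι x) = x := fun w x => WithConv.ofConv_injective (AlgHom.ext fun a => by
    simp [push, E, ι])
  refine WithConv.ofConv_injective (AlgHom.ext fun a => sub_eq_zero.1 ?_)
  have hz : (X * push A ι c).ofConv a - (push A ι c * X).ofConv a ∈ I M := by
    show _ ∈ ⨅ w ∈ {w | ∀ c ∈ C M, w * c = c * w}, RingHom.ker (E w)
    simp only [Submodule.mem_iInf]
    intro w hw
    rw [RingHom.mem_ker, map_sub, ← push_apply (E w), ← push_apply (E w), map_mul, map_mul, hX, hι, hw c hc, sub_self]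
  rw [← hN M hM] at hz
  have hz' : (X * push A ι c).ofConv a - (push A ι c * X).ofConv a ∈ RingHom.ker (E v) :=
    (biInf_le (fun w => RingHom.ker (E w)) (show v ∈ {v | ∀ c ∈ C N, v * c = c * v} from hv)) hz
  rw [RingHom.mem_ker, map_sub, ← push_apply (E v), ← push_apply (E v), map_mul, map_mul, hX, hι] at hz'
  exact hz'

variable {B : Type u} [CommRing B] [HopfAlgebra k B]

theorem evK_incl (h : WithConv (B →ₐ[k] K)) (b : B) : evK h ((1 : K) ⊗ₜ[k] b) = h.ofConv b := by
  simp [ev]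

theorem evK_conjT (τ : K ≃ₐ[k] K) (h : WithConv (B →ₐ[k] K)) (z : K ⊗[k] B) :
    evK (gal B τ h) (Groth.L01.MultByUnip.conjT K B τ z) = τ (evK h z) := by
  induction z with
  | zero => simp
  | add x y hx hy => simp only [map_add, hx, hy]
  | tmul c b => simp [ev, Groth.L01.MultByUnip.conjT, gal_apply]

/-- Coordinates of elements with separable values at torsion points are separable. -/
theorem isSeparable_repr [IsAlgClosed K] [Algebra.FiniteType k B] [IsReduced (K ⊗[k] B)]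
    (hd : HopfRep.IsDiagonalizable K (K ⊗[k] B)) (hB : SGA3b.IsMultTypeConst k B) {z : K ⊗[k] B}
    (hz : ∀ h, Tors h → IsSeparable k (evK h z)) {ι : Type*} (b : Module.Basis ι k B) (i : ι) :
    IsSeparable k ((Algebra.TensorProduct.basis K b).repr z i) := by
  classical
  let L := separableClosure k K
  obtain ⟨θ, hθ⟩ := LinearMap.exists_leftInverse_of_injective (Algebra.linearMap L K)
    (LinearMap.ker_eq_bot.2 (algebraMap L K).injective)
  let φ : K →ₗ[k] K := ((Algebra.linearMap L K).comp θ).restrictScalars k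
  have hφL : ∀ l ∈ L, ∀ c, φ (c * l) = φ c * l := by
    intro l hl c
    show (θ (c * l) : K) = θ c * l
    rw [show c * l = (⟨l, hl⟩ : L) • c by rw [mul_comm]; rfl, map_smul]
    show l * (θ c : K) = θ c * l
    exact mul_comm _ _
  have hφfix : ∀ l ∈ L, φ l = l := by
    intro l hl
    exact congrArg (fun t : L =>  (t : K)) (LinearMap.congr_fun hθ (⟨l, hl⟩ : L))
  have hz' : LinearMap.rTensor B φ z = z := by
    refine sub_eq_zero.1 (eq_zero_of_tors hd fun h hh => ?_)
    rw [map_sub, sub_eq_zero]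
    refine Eq.trans ?_ (hφfix _ (mem_separableClosure_iff.2 (hz h hh)))
    clear hz
    induction z with
    | zero => simp
    | add x y hx hy => simp only [map_add, hx, hy]
    | tmul c x =>
      simp only [LinearMap.rTensor_tmul, ev, Algebra.TensorProduct.lift_tmul, AlgHom.id_apply]
      exact (hφL _ (mem_separableClosure_iff.2 (isSeparable_tors hB hh x)) c).symm
  have hrep : ∀ w, (Algebra.TensorProduct.basis K b).repr (LinearMap.rTensor B φ w) i =
      φ ((Algebra.TensorProduct.basis K b).repr w i) := by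
    intro w
    induction w with
    | zero => simp
    | add x y hx hy => simp only [map_add, Finsupp.add_apply, hx, hy]
    | tmul c x =>
      simp only [LinearMap.rTensor_tmul, Algebra.TensorProduct.basis_repr_tmul, Finsupp.smul_apply,
        Finsupp.mapRange_apply, smul_eq_mul]
      rw [mul_comm c, mul_comm (φ c), ← Algebra.smul_def, ← Algebra.smul_def, map_smul]
  rw [← hz', hrep]
  exact mem_separableClosure_iff.1 (θ _).2

end Field

/-! ### The theorem -/

section Theorem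

open Groth.L08 Groth.L01.UnipSplit Groth.L01.MultByUnip

variable {k : Type u} [Field k] {A B : Type u} [CommRing A] [HopfAlgebra k A] [Algebra.FiniteType k A]
  [CommRing B] [HopfAlgebra k B] [Algebra.FiniteType k B] (hB : SGA3b.IsMultTypeConst k B)
  (ψ : B →ₐc[k] A) {J : Ideal A} [J.IsHopfIdeal k]
  (hJ : J = Ideal.map (ψ : B →+* A) (RingHom.ker (Bialgebra.counitAlgHom k B)))

include hB hJ in
/-- The homomorphic section over the algebraic closure. -/
theorem exists_geom_section (hψ : Function.Injective ψ) (hU : HopfRep.IsUnipotent k (A ⧸ J)) :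
    ∃ ρ : A →ₐ[k] AlgebraicClosure k ⊗[k] B, (∀ b, ρ (ψ b) = 1 ⊗ₜ[k] b) ∧
      ∀ g h : WithConv (B →ₐ[k] AlgebraicClosure k),
        toConv ((evK (g * h)).comp ρ) = toConv ((evK g).comp ρ) * toConv ((evK h).comp ρ) := by
  classical
  haveI : Algebra.FiniteType k (A ⧸ J) :=
    Algebra.FiniteType.of_surjective (Ideal.Quotient.mkₐ k J) Ideal.Quotient.mk_surjective
  let K := AlgebraicClosure k
  obtain ⟨T, _, _, _, q, hq, -, M, hM, -, ⟨eT⟩⟩ := Groth.L25.Char.exists_etale_split_of_const hB (⊥ : Ideal k)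
  haveI : Nontrivial T := ⟨0, 1, fun h => hq.ne_top ((Ideal.eq_top_iff_one _).2 (h ▸ q.zero_mem))⟩
  haveI : Module.Finite k T := Algebra.FormallyUnramified.finite_of_free k T
  obtain ⟨P, hP⟩ := Ideal.exists_maximal T
  letI := Ideal.Quotient.field P
  haveI : Algebra.IsAlgebraic k (T ⧸ P) := Algebra.IsAlgebraic.of_finite k (T ⧸ P)
  let fT : T →ₐ[k] K := (IsAlgClosed.lift : (T ⧸ P) →ₐ[k] K).comp (Ideal.Quotient.mkₐ k P)
  letI : Algebra T K := fT.toRingHom.toAlgebra
  haveI : IsScalarTower k T K := IsScalarTower.of_algebraMap_eq fun c => (fT.commutes c).symm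
  have hdiag : SGA3b.IsDiag K (K ⊗[k] B) := Groth.L25.MultType.isDiag_of_tower (R' := T) ⟨M, hM, ⟨eT⟩⟩
  let ψK : K ⊗[k] B →ₐc[K] K ⊗[k] A := Bialgebra.TensorProduct.map (BialgHom.id K K) ψ
  have hψK : Function.Injective ψK :=
    Module.Flat.lTensor_preserves_injective_linearMap (M := K) (ψ : B →ₗ[k] A) hψ
  let JK : Ideal (K ⊗[k] A) :=
    Ideal.map (ψK : K ⊗[k] B →+* K ⊗[k] A) (RingHom.ker (Bialgebra.counitAlgHom K (K ⊗[k] B)))
  have hrep : Dyn.Represents K (K ⊗[k] A) JK (fun R _ _ f => IsKer ψK (toConv f)) := by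
    intro R _ _ f
    refine ⟨fun h => ?_, fun h => IsKer.kills rfl h⟩
    exact (isKer_mk (ψ := ψK) JK rfl).post (Ideal.Quotient.liftₐ JK f h)
  haveI : JK.IsHopfIdeal K := isHopfIdeal_of_represents hrep (fun R _ _ => IsKer.one)
    (fun R _ _ g h hg hh => IsKer.mul hg hh) (fun R _ _ g hg => IsKer.pinv hg)
  let pK : K ⊗[k] A →ₐc[K] K ⊗[k] (A ⧸ J) :=
    Bialgebra.TensorProduct.map (BialgHom.id K K) (Bialgebra.Quotient.mkBialgHom (R := k) J)
  have hpK : Function.Surjective pK :=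
    LinearMap.lTensor_surjective K (g := ((Bialgebra.Quotient.mkBialgHom (R := k) J) : A →ₗ[k] A ⧸ J))
      Ideal.Quotient.mk_surjective
  let f := Bialgebra.Quotient.mkBialgHom (R := K) JK
  let f₀ : A →ₐ[k] (K ⊗[k] A) ⧸ JK :=
    ((f : K ⊗[k] A →ₐ[K] (K ⊗[k] A) ⧸ JK).restrictScalars k).comp Algebra.TensorProduct.includeRight
  have hf₀ : ∀ a ∈ J, f₀ a = 0 := by
    intro a ha
    have hle : J ≤ RingHom.ker f₀ := by
      rw [hJ, Ideal.map_le_iff_le_comap]
      intro c hc
      have hc0 : Coalgebra.counit (R := k) c = 0 := hc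
      show f ((1 : K) ⊗ₜ[k] ψ c) = 0
      refine Ideal.Quotient.eq_zero_iff_mem.2 ?_
      exact Ideal.mem_map_of_mem (ψK : K ⊗[k] B →+* K ⊗[k] A)
        (show (1 : K) ⊗ₜ[k] c ∈ RingHom.ker (Bialgebra.counitAlgHom K (K ⊗[k] B)) by simp [RingHom.mem_ker, hc0])
    exact hle ha
  let g : K ⊗[k] (A ⧸ J) →ₐ[K] (K ⊗[k] A) ⧸ JK :=
    Algebra.TensorProduct.lift (Algebra.ofId K _) (Ideal.Quotient.liftₐ J f₀ hf₀) fun _ _ => Commute.all _ _
  have hg : ∀ x, g (pK x) = f x := by
    intro x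
    induction x with
    | zero => simp
    | add x y hx hy => simp only [map_add, hx, hy]
    | tmul c a =>
      show algebraMap K _ c * f₀ a = f (c ⊗ₜ[k] a)
      rw [show c ⊗ₜ[k] a = c • ((1 : K) ⊗ₜ[k] a) by rw [TensorProduct.smul_tmul', smul_eq_mul, mul_one], map_smul]
      exact (Algebra.smul_def c (f₀ a)).symm
  obtain ⟨g', hg'⟩ := exists_bialg_factor pK hpK f g hg
  have hUK : HopfRep.IsUnipotent K ((K ⊗[k] A) ⧸ JK) := isUnipotent_of_surjective g' (fun w => by
    obtain ⟨x, rfl⟩ := Ideal.Quotient.mk_surjective w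
    exact ⟨pK x, hg' x⟩) ((Groth.Agent.S7951.result k K (A ⧸ J)).1 hU)
  obtain ⟨rK, hrK⟩ := Groth.Agent.S4128.result K (K ⊗[k] A) (K ⊗[k] B) hdiag ψK hψK JK rfl hUK
  refine ⟨((rK : K ⊗[k] A →ₐ[K] K ⊗[k] B).restrictScalars k).comp Algebra.TensorProduct.includeRight,
    fun b => congrArg (fun t : K ⊗[k] B →ₐc[K] K ⊗[k] B => t ((1 : K) ⊗ₜ[k] b)) hrK, fun g h => ?_⟩
  obtain ⟨L, hL, hL'⟩ := exists_ev_mul (AlgHom.id k K) g h
  refine WithConv.ofConv_injective (AlgHom.ext fun a => ?_)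
  show evK (g * h) (rK ((1 : K) ⊗ₜ[k] a)) = _
  rw [hL, ← CoalgHomClass.map_comp_comul_apply rK, Groth.Agent.S7966.comul_one_tmul, AlgHom.convMul_apply]
  induction Coalgebra.comul (R := k) a with
  | zero => simp
  | add x y hx hy => simp only [map_add, TensorProduct.tmul_add, hx, hy]
  | tmul x y =>
    show L (rK ((1 : K) ⊗ₜ[k] x) ⊗ₜ[K] rK ((1 : K) ⊗ₜ[k] y)) = _
    rw [hL']
    rfl

/-- Orders invertible in the field, exhausting all of them by divisibility. -/
def ordSeq (k : Type u) [Field k] (i : ℕ) : ℕ :=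
  open Classical in ∏ j ∈ (Finset.range (i + 1)).filter (fun j : ℕ => (j : k) ≠ 0), j

theorem ordSeq_ne_zero (i : ℕ) : (ordSeq k i : k) ≠ 0 := by
  classical
  rw [ordSeq, Nat.cast_prod, Finset.prod_ne_zero_iff]
  exact fun j hj => (Finset.mem_filter.1 hj).2

theorem ordSeq_dvd {i j : ℕ} (h : i ≤ j) : ordSeq k i ∣ ordSeq k j := by
  classical
  exact Finset.prod_dvd_prod_of_subset _ _ _ (Finset.filter_subset_filter _ (Finset.range_mono (by omega)))

theorem dvd_ordSeq {n : ℕ} (hn : (n : k) ≠ 0) : n ∣ ordSeq k n := by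
  classical
  exact Finset.dvd_prod_of_mem _ (Finset.mem_filter.2 ⟨Finset.mem_range.2 (Nat.lt_succ_self n), hn⟩)

include hB hJ in
/-- A commutative unipotent kernel with a section of the underlying schemes: the extension is trivial. -/
theorem exists_retraction [Algebra.FormallySmooth k B] (hψ : Function.Injective ψ)
    (hU : HopfRep.IsUnipotent k (A ⧸ J)) [Coalgebra.IsCocomm k (A ⧸ J)]
    (σ : A →ₐ[k] B) (hσ : σ.comp (ψ : B →ₐ[k] A) = AlgHom.id k B) :
    ∃ r : A →ₐc[k] B, r.comp ψ = BialgHom.id k B := by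
  classical
  let K := AlgebraicClosure k
  haveI : IsReduced (K ⊗[k] B) := Groth.L01.SmoothKer.isReduced_of_formallySmooth (k := K) inferInstance
  have hd : HopfRep.IsDiagonalizable K (K ⊗[k] B) := isDiagonalizable_algClosure hB
  haveI : Coalgebra.IsCocomm k B := Groth.Agent.S7979.isCocomm_of_diag hd
  haveI : IsAlgClosure k K := ⟨inferInstance, inferInstance⟩
  haveI : Normal k K := IsAlgClosure.normal k K
  obtain ⟨ρ, hρψ, hρmul⟩ := exists_geom_section hB ψ hJ hψ hU
  let p : WithConv (A →ₐ[k] K) →* WithConv (B →ₐ[k] K) := pt ψ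
  let s₀ : WithConv (B →ₐ[k] K) →* WithConv (A →ₐ[k] K) :=
    MonoidHom.mk' (fun h => toConv ((evK h).comp ρ)) hρmul
  have hps₀ : ∀ h, p (s₀ h) = h := fun h => WithConv.ofConv_injective (AlgHom.ext fun b => by
    show evK h (ρ (ψ b)) = h.ofConv b
    rw [hρψ, evK_incl])
  have hcomm : ∀ u v : WithConv (A →ₐ[k] K), p u = 1 → p v = 1 → u * v = v * u := ker_comm ψ hJ
  -- the exhaustion
  let T : ℕ → Subgroup (WithConv (B →ₐ[k] K)) := fun i =>
    (powMonoidHom (ordSeq k i) : WithConv (B →ₐ[k] K) →* WithConv (B →ₐ[k] K)).ker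
  have hTmem : ∀ i h, h ∈ T i ↔ h ^ ordSeq k i = 1 := fun i h => Iff.rfl
  have hTmono : Monotone T := fun i j hij h hh => by
    obtain ⟨c, hc⟩ := ordSeq_dvd (k := k) hij
    rw [hTmem] at hh ⊢
    rw [hc, pow_mul, hh, one_pow]
  have hTtors : ∀ i h, h ∈ T i → Tors h := fun i h hh => ⟨_, ordSeq_ne_zero i, hh⟩
  have hTors : ∀ h, Tors h → ∃ i, ∀ j, i ≤ j → h ∈ T j := by
    rintro h ⟨n, hn, hh⟩
    refine ⟨n, fun j hj => hTmono hj ?_⟩
    obtain ⟨c, hc⟩ := dvd_ordSeq (k := k) hn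
    rw [hTmem, hc, pow_mul, hh, one_pow]
  have hTfin : ∀ i, Finite (T i) := fun i => (finite_kill hd (n := ordSeq k i)
    (Nat.pos_of_ne_zero fun h => ordSeq_ne_zero (k := k) i (by rw [h, Nat.cast_zero]))).to_subtype
  haveI : ∀ i, Fintype (T i) := fun i => @Fintype.ofFinite _ (hTfin i)
  have hcard : ∀ i, (Fintype.card (T i) : k) ≠ 0 := by
    intro i h0
    obtain ⟨c, hc⟩ := CharP.exists k
    have hdvd := (CharP.cast_eq_zero_iff k c _).1 h0
    rcases CharP.char_is_prime_or_zero k c with hcp | rfl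
    · haveI : Fact c.Prime := ⟨hcp⟩
      obtain ⟨x, hx⟩ := exists_prime_orderOf_dvd_card c hdvd
      have hxn : x ^ ordSeq k i = 1 := Subtype.ext x.2
      have hdiv := orderOf_dvd_of_pow_eq_one hxn
      rw [hx] at hdiv
      exact ordSeq_ne_zero i ((CharP.cast_eq_zero_iff k c _).2 hdiv)
    · exact Fintype.card_ne_zero (Nat.eq_zero_of_zero_dvd hdvd)
  have hroot : ∀ i, ∀ u, p u = 1 → ∃! w, p w = 1 ∧ w ^ Fintype.card (T i) = u := fun i =>
    ker_root ψ hJ hU (hcard i)
  -- separable points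
  let L := separableClosure k K
  let Sep : Subgroup (WithConv (A →ₐ[k] K)) := (push A L.val).range
  have hSep : ∀ g : WithConv (A →ₐ[k] K), (∀ a, IsSeparable k (g.ofConv a)) → g ∈ Sep := fun g hg =>
    ⟨toConv (g.ofConv.codRestrict L.toSubalgebra fun a => mem_separableClosure_iff.2 (hg a)),
      WithConv.ofConv_injective (AlgHom.ext fun _ => rfl)⟩
  have hSepval : ∀ g ∈ Sep, ∀ a, IsSeparable k (g.ofConv a) := by
    rintro _ ⟨x, rfl⟩ a
    exact mem_separableClosure_iff.1 (x.ofConv a).2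
  have hSeproot : ∀ i, ∀ w, p w = 1 → w ^ Fintype.card (T i) ∈ Sep → w ∈ Sep := by
    rintro i w hw ⟨x, hx⟩
    have hx1 : pt ψ x = 1 := push_injective (f := L.val) Subtype.val_injective (by
      rw [← pt_push, hx, map_pow, map_one]
      show p w ^ _ = 1
      rw [hw, one_pow])
    obtain ⟨y, ⟨hy, hyn⟩, -⟩ := ker_root ψ hJ hU (hcard i) x hx1
    refine ⟨y, (hroot i _ (show p (w ^ Fintype.card (T i)) = 1 by rw [map_pow, hw, one_pow])).unique
      ⟨?_, ?_⟩ ⟨hw, rfl⟩⟩
    · show pt ψ (push A L.val y) = 1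
      rw [pt_push, hy, map_one]
    · rw [← map_pow, hyn, hx]
  -- the scheme-theoretic section on points
  let s : WithConv (B →ₐ[k] K) → WithConv (A →ₐ[k] K) := fun h => toConv (h.ofConv.comp σ)
  have hs : ∀ h, p (s h) = h := fun h => WithConv.ofConv_injective (AlgHom.ext fun b => by
    show h.ofConv (σ (ψ b)) = h.ofConv b
    rw [show σ (ψ b) = b from AlgHom.congr_fun hσ b])
  have hsSep : ∀ h, Tors h → s h ∈ Sep := fun h hh => hSep _ fun a => isSeparable_tors hB hh (σ a)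
  choose r hr hrτ hrS using fun i => exists_hom_section' p hcomm (T i) (hroot i) s hs
  have hTgal : ∀ (τ : K ≃ₐ[k] K) i h, gal B τ h ∈ T i ↔ h ∈ T i := fun τ i h => by
    rw [hTmem, hTmem, ← map_pow, map_eq_one_iff _ (gal B τ).injective]
  have hrgal : ∀ i (τ : K ≃ₐ[k] K) h, gal A τ (r i h) = r i (restrictEquiv (T i) (gal B τ) (hTgal τ i) h) :=
    fun i τ h => hrτ i (gal A τ) (gal B τ) (gal_pt ψ τ) (hTgal τ i) (fun _ => rfl) h
  have hrSep : ∀ i h, r i h ∈ Sep := fun i => hrS i Sep (fun h hh => hsSep h (hTtors i h hh)) (hSeproot i)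
  -- stabilisation
  obtain ⟨N, hN⟩ := exists_stable (fun i => s₀ '' (T i : Set (WithConv (B →ₐ[k] K))))
    (fun i j hij => Set.image_mono (hTmono hij))
  obtain ⟨u, hu, huc, -, -⟩ := exists_conj' p hcomm (T N) (hroot N) (s₀.comp (T N).subtype) (r N)
    (fun h => hps₀ h.1) (hr N)
  let rs : WithConv (B →ₐ[k] K) →* WithConv (A →ₐ[k] K) := (MulAut.conj u).toMonoidHom.comp s₀
  have hrs : ∀ h, rs h = u * s₀ h * u⁻¹ := fun h => rfl
  have hfacts : ∀ h, Tors h → rs h ∈ Sep ∧ ∀ τ : K ≃ₐ[k] K, gal A τ (rs h) = rs (gal B τ h) := by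
    intro h hh
    obtain ⟨i, hi⟩ := hTors h hh
    let M := max i N
    have hNM : N ≤ M := le_max_right i N
    let incl : T N →* T M := Subgroup.inclusion (hTmono hNM)
    obtain ⟨v, hv, hvc, hvτ, hvS⟩ := exists_conj' p hcomm (T N) (hroot N) ((r M).comp incl) (r N)
      (fun h => hr M (incl h)) (hr N)
    obtain ⟨w, hw, hwc, -, -⟩ := exists_conj' p hcomm (T M) (hroot M) (s₀.comp (T M).subtype) (r M)
      (fun h => hps₀ h.1) (hr M)
    have hvgal : ∀ τ : K ≃ₐ[k] K, gal A τ v = v := fun τ =>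
      hvτ (gal A τ) (gal B τ) (gal_pt ψ τ) (hTgal τ N) (fun h => hrgal M τ (incl h)) (hrgal N τ)
    have hvSep : v ∈ Sep := hvS Sep (fun h => hrSep M _) (hrSep N) (hSeproot N)
    have hcent : ∀ c ∈ s₀ '' (T M : Set (WithConv (B →ₐ[k] K))), u⁻¹ * (v * w) * c = c * (u⁻¹ * (v * w)) := by
      refine hN M _ hNM ?_
      rintro _ ⟨g, hg, rfl⟩
      have h1 : u * s₀ g * u⁻¹ = v * r M (incl ⟨g, hg⟩) * v⁻¹ := (huc ⟨g, hg⟩).symm.trans (hvc ⟨g, hg⟩)
      have h2 : r M (incl ⟨g, hg⟩) = w * s₀ g * w⁻¹ := hwc _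
      rw [h2] at h1
      calc u⁻¹ * (v * w) * s₀ g = u⁻¹ * (v * (w * s₀ g * w⁻¹) * v⁻¹) * (v * w) := by group
        _ = u⁻¹ * (u * s₀ g * u⁻¹) * (v * w) := by rw [h1]
        _ = s₀ g * (u⁻¹ * (v * w)) := by group
    have hkey : ∀ g : T M, rs g.1 = v * r M g * v⁻¹ := by
      intro g
      have h1 := hcent _ ⟨g.1, g.2, rfl⟩
      rw [hrs, hwc g]
      show u * s₀ g.1 * u⁻¹ = v * (w * s₀ g.1 * w⁻¹) * v⁻¹
      calc u * s₀ g.1 * u⁻¹ = u * (s₀ g.1 * (u⁻¹ * (v * w))) * (w⁻¹ * v⁻¹) := by group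
        _ = u * (u⁻¹ * (v * w) * s₀ g.1) * (w⁻¹ * v⁻¹) := by rw [h1]
        _ = v * (w * s₀ g.1 * w⁻¹) * v⁻¹ := by group
    have hhM : h ∈ T M := hi M (le_max_left i N)
    refine ⟨?_, fun τ => ?_⟩
    · rw [hkey ⟨h, hhM⟩]
      exact mul_mem (mul_mem hvSep (hrSep M _)) (inv_mem hvSep)
    · rw [hkey ⟨h, hhM⟩, hkey ⟨gal B τ h, (hTgal τ M h).2 hhM⟩, map_mul, map_mul, map_inv, hvgal, hrgal]
      rfl
  -- descent
  let cst : WithConv (A →ₐ[k] K) →* WithConv (A →ₐ[k] K ⊗[k] B) :=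
    push A (Algebra.TensorProduct.includeLeft : K →ₐ[k] K ⊗[k] B)
  let R' : WithConv (A →ₐ[k] K ⊗[k] B) := cst u * toConv ρ * cst u⁻¹
  have hR' : ∀ h a, evK h (R'.ofConv a) = (rs h).ofConv a := by
    intro h a
    have hE : ∀ x, push A (evK h) (cst x) = x := fun x => WithConv.ofConv_injective (AlgHom.ext fun a => by
      simp [cst, push, ev])
    rw [← push_apply (evK h), map_mul, map_mul, hE, hE]
    rfl
  have hdesc : ∀ a, ∃ b : B, (1 : K) ⊗ₜ[k] b = R'.ofConv a := by
    intro a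
    refine mem_range_of_fixed (fun τ => ?_) (isSeparable_repr hd hB (fun h hh => ?_) _)
    · refine sub_eq_zero.1 (eq_zero_of_tors hd fun h hh => ?_)
      have hh' : Tors ((gal B τ).symm h) := by
        obtain ⟨n, hn, hn'⟩ := hh
        exact ⟨n, hn, by rw [← map_pow, hn', map_one]⟩
      rw [map_sub, sub_eq_zero]
      conv_lhs => rw [← (gal B τ).apply_symm_apply h, evK_conjT, hR', ← gal_apply, (hfacts _ hh').2,
        MulEquiv.apply_symm_apply]
      rw [hR']
    · rw [hR']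
      exact hSepval _ (hfacts h hh).1 a
  let i : B →ₐ[k] K ⊗[k] B := Algebra.TensorProduct.includeRight
  have hi : Function.Injective i := Algebra.TensorProduct.includeRight_injective (A := K) (algebraMap k K).injective
  let eB := AlgEquiv.ofInjective i hi
  let r₀ : A →ₐ[k] B := (eB.symm : _ →ₐ[k] B).comp (R'.ofConv.codRestrict i.range fun a => hdesc a)
  have hr₀ : ∀ h : WithConv (B →ₐ[k] K), h.ofConv.comp r₀ = (rs h).ofConv := fun h => AlgHom.ext fun a => by
    show h.ofConv (r₀ a) = _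
    rw [← evK_incl, ← hR']
    exact congrArg (evK h) (congrArg Subtype.val (eB.apply_symm_apply ⟨R'.ofConv a, hdesc a⟩))
  refine ⟨BialgHom.ofAlgHom r₀ (AlgHom.ext fun a => (algebraMap k K).injective ?_) (AlgHom.ext fun a => ?_),
    BialgHom.ext fun b => ?_⟩
  · show algebraMap k K (Coalgebra.counit (R := k) (r₀ a)) = algebraMap k K (Coalgebra.counit (R := k) a)
    have h1 := AlgHom.congr_fun (hr₀ 1) a
    rw [map_one rs] at h1
    simpa [AlgHom.convOne_apply] using h1
  · show Algebra.TensorProduct.map r₀ r₀ (Coalgebra.comul (R := k) a) = Coalgebra.comul (R := k) (r₀ a)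
    refine sub_eq_zero.1 (eq_zero_of_tors₂ (K := K) hd fun g h hg hh => ?_)
    rw [map_sub, sub_eq_zero]
    have h1 : ∀ b : B, Algebra.TensorProduct.lift g.ofConv h.ofConv (fun _ _ => Commute.all _ _)
        (Coalgebra.comul (R := k) b) = (g * h).ofConv b := by
      intro b
      rw [AlgHom.convMul_apply]
    rw [h1]
    show _ = ((g * h).ofConv.comp r₀) a
    rw [hr₀, map_mul, AlgHom.convMul_apply]
    induction Coalgebra.comul (R := k) a with
    | zero => simp
    | add x y hx hy => simp only [map_add, hx, hy]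
    | tmul x y => simp [← hr₀]
  · refine hi (sub_eq_zero.1 (eq_zero_of_tors hd fun h hh => ?_))
    rw [map_sub, sub_eq_zero]
    show evK h ((1 : K) ⊗ₜ[k] r₀ (ψ b)) = evK h ((1 : K) ⊗ₜ[k] b)
    rw [evK_incl, evK_incl]
    show (h.ofConv.comp r₀) (ψ b) = _
    rw [hr₀]
    show (p (rs h)).ofConv b = _
    rw [hrs, map_mul, map_mul, map_inv, hu, inv_one, one_mul, mul_one, hps₀]

end Theorem

end Groth.L01.MultDescent
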