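import Mathlib.Algebra.BigOperators.Group.Finset.Basic
import Mathlib.GroupTheory.QuotientGroup.Basic
import Mathlib.Algebra.Group.Subgroup.Basic
import Mathlib.Data.Fintype.BigOperators
import Mathlib.Tactic.Group
import Mathlib.Algebra.Group.Subgroup.Finite

/-!
# Averaging over a finite group acting on a uniquely divisible commutative group
-/

set_option autoImplicit false

universe u v

namespace Groth.L01.MultDescent

variable {G : Type u} [Group G] {H : Type v} [CommGroup H] [Fintype H]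

/-- The setting: a commutative normal subgroup with unique roots of order the cardinality of `H`. -/
structure AvgData (p : G →* H) : Prop where
  comm : ∀ u v : G, p u = 1 → p v = 1 → u * v = v * u
  root : ∀ u : G, p u = 1 → ∃! w : G, p w = 1 ∧ w ^ Fintype.card H = u

variable {p : G →* H}

/-- the kernel, a commutative group -/
@[reducible] noncomputable def AvgData.group (d : AvgData p) : CommGroup p.ker :=
  { (inferInstance : Group p.ker) with
    mul_comm := fun a b => Subtype.ext (d.comm a.1 b.1 a.2 b.2) }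

/-- Averaged homomorphism from a set-theoretic section. -/
theorem exists_hom_section (d : AvgData p) (s : H → G) (hs : ∀ h, p (s h) = h) :
    ∃ r : H →* G, (∀ h, p (r h) = h) ∧
      (∀ (τ : G ≃* G) (τH : H ≃* H), (∀ g, p (τ g) = τH (p g)) → (∀ h, τ (s h) = s (τH h)) →
        ∀ h, τ (r h) = r (τH h)) ∧
      (∀ S : Subgroup G, (∀ h, s h ∈ S) → (∀ w, p w = 1 → w ^ Fintype.card H ∈ S → w ∈ S) → ∀ h, r h ∈ S) := by
  classical
  letI := d.group
  have hf : ∀ g h, p (s g * s h * (s (g * h))⁻¹) = 1 := fun g h => by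
    rw [map_mul, map_mul, map_inv, hs, hs, hs, mul_inv_cancel]
  let f : H → H → p.ker := fun g h => ⟨s g * s h * (s (g * h))⁻¹, hf g h⟩
  choose ρ hρ hρu using fun u : p.ker => d.root u.1 u.2
  let R : p.ker → p.ker := fun u => ⟨ρ u, (hρ u).1⟩
  have hR : ∀ u, R u ^ Fintype.card H = u := fun u => Subtype.ext (by rw [SubgroupClass.coe_pow]; exact (hρ u).2)
  have hRu : ∀ u w : p.ker, w ^ Fintype.card H = u → w = R u := fun u w h => Subtype.ext
    (hρu u w.1 ⟨w.2, by rw [← SubgroupClass.coe_pow, h]⟩)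
  let act : H → p.ker →* p.ker := fun g =>
    { toFun := fun u => ⟨s g * u.1 * (s g)⁻¹, by rw [MonoidHom.mem_ker, map_mul, map_mul, map_inv, show p u.1 = 1 from u.2, mul_one, mul_inv_cancel]⟩
      map_one' := Subtype.ext (by simp)
      map_mul' := fun a b => Subtype.ext (by simp only [Subgroup.coe_mul]; group) }
  let φ : H → p.ker := fun g => ∏ h, f g h
  let ψ : H → p.ker := fun g => R (φ g)
  have key : ∀ g h, act g (ψ h) * ψ g = f g h * ψ (g * h) := by
    intro g h
    have hco : ∀ l, act g (f h l) * f g (h * l) = f g h * f (g * h) l := fun l => Subtype.ext (by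
      simp only [act, f, MonoidHom.coe_mk, OneHom.coe_mk, Subgroup.coe_mul, mul_assoc g h l]
      group)
    have h1 : act g (φ h) * φ g = f g h ^ Fintype.card H * φ (g * h) := by
      simp only [φ, map_prod]
      rw [← Equiv.prod_comp (Equiv.mulLeft h) (fun l => f g l), ← Finset.prod_mul_distrib]
      simp only [Equiv.coe_mulLeft, hco, Finset.prod_mul_distrib, Finset.prod_const, Finset.card_univ]
    refine (hRu (f g h ^ Fintype.card H * φ (g * h)) _ ?_).trans (hRu _ _ ?_).symm
    · rw [mul_pow, ← map_pow, hR, hR, h1]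
    · rw [mul_pow, hR]
  have hhom : ∀ g h, (ψ (g * h)).1⁻¹ * s (g * h) = ((ψ g).1⁻¹ * s g) * ((ψ h).1⁻¹ * s h) := by
    intro g h
    have h2 := congrArg Subtype.val (key g h)
    simp only [act, f, MonoidHom.coe_mk, OneHom.coe_mk, Subgroup.coe_mul] at h2
    have h3 : (ψ g).1⁻¹ * s g * ((ψ h).1⁻¹ * s h) =
        (s g * (ψ h).1 * (s g)⁻¹ * (ψ g).1)⁻¹ * (s g * s h * (s (g * h))⁻¹) * s (g * h) := by group
    rw [h3, h2, mul_inv_rev]
    group
  refine ⟨MonoidHom.mk' (fun g => (ψ g).1⁻¹ * s g) hhom, fun h => ?_, fun τ τH hτp hτs h => ?_, fun S hS hSroot h => ?_⟩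
  · show p ((ψ h).1⁻¹ * s h) = h
    rw [map_mul, map_inv, show p (ψ h).1 = 1 from (ψ h).2, inv_one, one_mul, hs]
  · show τ ((ψ h).1⁻¹ * s h) = (ψ (τH h)).1⁻¹ * s (τH h)
    let τk : p.ker →* p.ker :=
      { toFun := fun u => ⟨τ u.1, by rw [MonoidHom.mem_ker, hτp, show p u.1 = 1 from u.2, map_one]⟩
        map_one' := Subtype.ext (map_one τ)
        map_mul' := fun a b => Subtype.ext (map_mul τ a.1 b.1) }
    have hτf : ∀ a b, τk (f a b) = f (τH a) (τH b) := fun a b => Subtype.ext (by
      show τ (s a * s b * (s (a * b))⁻¹) = s (τH a) * s (τH b) * (s (τH a * τH b))⁻¹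
      rw [map_mul, map_mul, map_inv, hτs, hτs, hτs, map_mul])
    have hτψ : τk (ψ h) = ψ (τH h) := by
      refine hRu _ _ ?_
      rw [← map_pow, hR]
      simp only [φ, map_prod, hτf]
      exact Equiv.prod_comp τH.toEquiv (fun l => f (τH h) l)
    rw [map_mul, map_inv, hτs, show τ (ψ h).1 = (ψ (τH h)).1 from congrArg Subtype.val hτψ]
  · show (ψ h).1⁻¹ * s h ∈ S
    refine mul_mem (inv_mem (hSroot _ (ψ h).2 ?_)) (hS h)
    rw [← SubgroupClass.coe_pow, hR]
    show (φ h : p.ker) ∈ S.subgroupOf p.ker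
    exact Subgroup.prod_mem _ fun l _ => Subgroup.mem_subgroupOf.2 (mul_mem (mul_mem (hS h) (hS l)) (inv_mem (hS _)))

/-- Two homomorphic sections are conjugate. -/
theorem exists_conj (d : AvgData p) (r r' : H →* G) (hr : ∀ h, p (r h) = h) (hr' : ∀ h, p (r' h) = h) :
    ∃ u : G, p u = 1 ∧ (∀ h, r' h = u * r h * u⁻¹) ∧
      (∀ (τ : G ≃* G) (τH : H ≃* H), (∀ g, p (τ g) = τH (p g)) → (∀ h, τ (r h) = r (τH h)) →
        (∀ h, τ (r' h) = r' (τH h)) → τ u = u) ∧
      (∀ S : Subgroup G, (∀ h, r h ∈ S) → (∀ h, r' h ∈ S) →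
        (∀ w, p w = 1 → w ^ Fintype.card H ∈ S → w ∈ S) → u ∈ S) := by
  classical
  letI := d.group
  let c : H → p.ker := fun h => ⟨r' h * (r h)⁻¹, by rw [MonoidHom.mem_ker, map_mul, map_inv, hr, hr', mul_inv_cancel]⟩
  let act : H → p.ker →* p.ker := fun g =>
    { toFun := fun u => ⟨r g * u.1 * (r g)⁻¹, by rw [MonoidHom.mem_ker, map_mul, map_mul, map_inv, show p u.1 = 1 from u.2, mul_one, mul_inv_cancel]⟩
      map_one' := Subtype.ext (by simp)
      map_mul' := fun a b => Subtype.ext (by simp only [Subgroup.coe_mul]; group) }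
  choose ρ hρ hρu using fun u : p.ker => d.root u.1 u.2
  let R : p.ker → p.ker := fun u => ⟨ρ u, (hρ u).1⟩
  have hR : ∀ u, R u ^ Fintype.card H = u := fun u => Subtype.ext (by rw [SubgroupClass.coe_pow]; exact (hρ u).2)
  have hRu : ∀ u w : p.ker, w ^ Fintype.card H = u → w = R u := fun u w h => Subtype.ext
    (hρu u w.1 ⟨w.2, by rw [← SubgroupClass.coe_pow, h]⟩)
  let S₀ : p.ker := ∏ h, c h
  let u := R S₀
  have hc : ∀ g h, c (g * h) = c g * act g (c h) := fun g h => Subtype.ext (by
    simp only [c, act, MonoidHom.coe_mk, OneHom.coe_mk, Subgroup.coe_mul, map_mul]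
    group)
  have key : ∀ g, c g * act g u = u := by
    intro g
    refine (hRu _ _ ?_)
    rw [mul_pow, ← map_pow, hR]
    show c g ^ Fintype.card H * act g (∏ h, c h) = ∏ h, c h
    rw [map_prod, ← Finset.card_univ, ← Finset.prod_const, ← Finset.prod_mul_distrib]
    simp only [← hc]
    exact Equiv.prod_comp (Equiv.mulLeft g) c
  refine ⟨u.1, u.2, fun g => ?_, fun τ τH hτp hτr hτr' => ?_, fun S hS hS' hSroot => ?_⟩
  · have h1 := congrArg Subtype.val (key g)
    simp only [c, act, MonoidHom.coe_mk, OneHom.coe_mk, Subgroup.coe_mul] at h1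
    conv_rhs => arg 1; arg 1; rw [← h1]
    group
  · let τk : p.ker →* p.ker :=
      { toFun := fun u => ⟨τ u.1, by rw [MonoidHom.mem_ker, hτp, show p u.1 = 1 from u.2, map_one]⟩
        map_one' := Subtype.ext (map_one τ)
        map_mul' := fun a b => Subtype.ext (map_mul τ a.1 b.1) }
    have hτc : ∀ a, τk (c a) = c (τH a) := fun a => Subtype.ext (by
      show τ (r' a * (r a)⁻¹) = r' (τH a) * (r (τH a))⁻¹
      rw [map_mul, map_inv, hτr, hτr'])
    have h1 : τk u = u := by
      refine hRu _ _ ?_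
      rw [← map_pow, hR]
      simp only [S₀, map_prod, hτc]
      exact Equiv.prod_comp τH.toEquiv c
    exact congrArg Subtype.val h1
  · refine hSroot _ u.2 ?_
    rw [← SubgroupClass.coe_pow, hR]
    show (S₀ : p.ker) ∈ S.subgroupOf p.ker
    exact Subgroup.prod_mem _ fun l _ => Subgroup.mem_subgroupOf.2 (mul_mem (hS' l) (inv_mem (hS l)))

end Groth.L01.MultDescent
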